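import Cfsg.Agent.NCy.Basic
import Cfsg.Agent.AbC.Thm

set_option autoImplicit false
set_option linter.unusedSectionVars false

/-! # Using the abelian centraliser theorem (helper2) -/

namespace Cfsg.Agent.NCy

open Cfsg.Agent.AbC

universe u

/-- no nontrivial solvable normal subgroup -/
def NS (G : Type u) [Group G] : Prop := ∀ N : Subgroup G, N.Normal → Group.IsSolvable ↥N → N = ⊥

variable {G : Type u} [Group G] [Finite G]

theorem not_cyclic_sylow {z z' : G} (hz : Inv z) (hz' : Inv z') (hc : Commute z z') (hne : z ≠ z') :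
    ¬ ∀ P : Sylow 2 G, IsCyclic ↥P := by
  intro h
  haveI : Fact (Nat.Prime 2) := ⟨Nat.prime_two⟩
  have h2 : ∀ {u : G}, Inv u → IsPGroup 2 (Subgroup.zpowers u) := by
    intro u hu
    rw [IsPGroup.iff_card]
    exact ⟨1, by rw [Nat.card_zpowers, hu.orderOf, pow_one]⟩
  have hle : Subgroup.zpowers z ≤ Subgroup.normalizer (Subgroup.zpowers z' : Set G) := by
    rw [Subgroup.zpowers_le]
    exact (Subgroup.mem_normalizer_iff.2 (by
      intro y
      show y ∈ Subgroup.zpowers z' ↔ z * y * z⁻¹ ∈ Subgroup.zpowers z'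
      constructor
      · intro hy
        obtain ⟨k, rfl⟩ := Subgroup.mem_zpowers_iff.1 hy
        rw [(hc.zpow_right k).eq, mul_inv_cancel_right]; exact hy
      · intro hy
        obtain ⟨k, hk⟩ := Subgroup.mem_zpowers_iff.1 hy
        have : y = z' ^ k := by
          have h1 : y = z⁻¹ * (z' ^ k) * z := by rw [hk]; group
          rw [h1, mul_assoc, ← (hc.zpow_right k).eq, inv_mul_cancel_left]
        rw [this]; exact Subgroup.zpow_mem _ (Subgroup.mem_zpowers z') k))
  have hp : IsPGroup 2 (Subgroup.zpowers z ⊔ Subgroup.zpowers z' : Subgroup G) :=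
    (h2 hz).to_sup_of_normal_right' (h2 hz') hle
  obtain ⟨P, hP⟩ := hp.exists_le_sylow
  have hzP : z ∈ (P : Subgroup G) := hP (Subgroup.mem_sup_left (Subgroup.mem_zpowers z))
  have hzP' : z' ∈ (P : Subgroup G) := hP (Subgroup.mem_sup_right (Subgroup.mem_zpowers z'))
  haveI := h P
  letI := Fintype.ofFinite P
  classical
  have h3 := IsCyclic.card_pow_eq_one_le (α := P) (n := 2) (by norm_num)
  have h4 : ({1, ⟨z, hzP⟩, ⟨z', hzP'⟩} : Finset P) ⊆ Finset.univ.filter (fun a : P => a ^ 2 = 1) := by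
    intro a ha
    rw [Finset.mem_filter]
    refine ⟨Finset.mem_univ _, ?_⟩
    simp only [Finset.mem_insert, Finset.mem_singleton] at ha
    rcases ha with rfl | rfl | rfl
    · exact one_pow 2
    · exact Subtype.ext (by rw [sq]; exact hz.2)
    · exact Subtype.ext (by rw [sq]; exact hz'.2)
  have h5 : ({1, ⟨z, hzP⟩, ⟨z', hzP'⟩} : Finset P).card = 3 := by
    rw [Finset.card_eq_three]
    exact ⟨_, _, _, fun e => hz.1 (congrArg Subtype.val e).symm, fun e => hz'.1 (congrArg Subtype.val e).symm,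
      fun e => hne (congrArg Subtype.val e), rfl⟩
  have h6 := Finset.card_le_card h4
  rw [h5] at h6
  exact absurd (h6.trans h3) (by norm_num)

theorem sylow_not_normal (hns : NS G) {z : G} (hz : Inv z) : ¬ ∀ P : Sylow 2 G, (P : Subgroup G).Normal := by
  haveI : Fact (Nat.Prime 2) := ⟨Nat.prime_two⟩
  intro h
  have h2 : IsPGroup 2 (Subgroup.zpowers z) := by
    rw [IsPGroup.iff_card]
    exact ⟨1, by rw [Nat.card_zpowers, hz.orderOf, pow_one]⟩
  obtain ⟨P, hP⟩ := h2.exists_le_sylow
  haveI : Group.IsNilpotent P := P.isPGroup'.isNilpotent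
  have h3 := hns P (h P) inferInstance
  have h4 : z ∈ (P : Subgroup G) := hP (Subgroup.mem_zpowers z)
  rw [h3, Subgroup.mem_bot] at h4
  exact hz.1 h4

theorem even_card_of_inv {z : G} (hz : Inv z) : Even (Nat.card G) := by
  rw [even_iff_two_dvd, ← hz.orderOf]; exact orderOf_dvd_natCard z

theorem sl_of_abCent (hab : AbCent G) (hns : NS G) {z z' : G} (hz : Inv z) (hz' : Inv z') (hc : Commute z z') (hne : z ≠ z') :
    ∃ (F : Type) (_ : Field F) (_ : Fintype F), CharP F 2 ∧ Nonempty (G ≃* Matrix.SpecialLinearGroup (Fin 2) F) := by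
  rcases AbC.main (even_card_of_inv hz) hab with h | h | h
  · exact absurd h (not_cyclic_sylow hz hz' hc hne)
  · exact absurd h (sylow_not_normal hns hz)
  · obtain ⟨F, i1, i2, A, i3, i4, hF, hA, ⟨e⟩⟩ := h
    refine ⟨F, i1, i2, hF, ?_⟩
    let f : G →* Matrix.SpecialLinearGroup (Fin 2) F := (MonoidHom.fst _ _).comp e.toMonoidHom
    have hf : ∀ g, f g = (e g).1 := fun g => rfl
    have hker : f.ker = ⊥ := by
      apply hns _ inferInstance
      apply Group.isSolvable_of_comm
      intro a b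
      have ha : (e (a : G)).1 = 1 := (hf _).symm.trans (MonoidHom.mem_ker.1 a.2)
      have hb : (e (b : G)).1 = 1 := (hf _).symm.trans (MonoidHom.mem_ker.1 b.2)
      apply Subtype.ext
      apply e.injective
      show e ((a : G) * b) = e ((b : G) * a)
      rw [map_mul, map_mul]
      apply Prod.ext
      · rw [Prod.fst_mul, Prod.fst_mul, ha, hb]
      · rw [Prod.snd_mul, Prod.snd_mul, mul_comm]
    refine ⟨MulEquiv.ofBijective f ⟨(MonoidHom.ker_eq_bot_iff f).1 hker, ?_⟩⟩
    intro y
    refine ⟨e.symm (y, 1), ?_⟩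
    rw [hf, MulEquiv.apply_symm_apply]

end Cfsg.Agent.NCy
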