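import Mathlib
import Cfsg.Agent.AbC.Basic
import Cfsg.Agent.S4211

set_option autoImplicit false
set_option linter.unusedSectionVars false

/-! # Normalisers of cyclic subgroups of even order: basics (helper2) -/

namespace Cfsg.Agent.NCy

open Cfsg.Agent.AbC

universe u

/-- the condition on normalisers of cyclic subgroups of even order -/
def NC (G : Type u) [Group G] : Prop := ∀ X : Subgroup G, IsCyclic ↥X → Even (Nat.card ↥X) → ∀ Y : Subgroup G, Y ≤ X → Y ≠ ⊥ →
      Subgroup.normalizer (X : Set G) = Subgroup.normalizer (Y : Set G)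

variable {G : Type u} [Group G]

/-- same centraliser -/
def Same (u v : G) : Prop := ∀ g : G, g * u = u * g ↔ g * v = v * g

theorem Same.refl (u : G) : Same u u := fun _ => Iff.rfl
theorem Same.symm {u v : G} (h : Same u v) : Same v u := fun g => (h g).symm
theorem Same.trans {u v w : G} (h : Same u v) (h' : Same v w) : Same u w := fun g => (h g).trans (h' g)
theorem Same.comm {u v : G} (h : Same u v) : u * v = v * u := (h u).1 rfl

theorem Same.conj {u v : G} (h : Same u v) (a : G) : Same (a * u * a⁻¹) (a * v * a⁻¹) := by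
  have key : ∀ w g : G, g * (a * w * a⁻¹) = a * w * a⁻¹ * g ↔ (a⁻¹ * g * a) * w = w * (a⁻¹ * g * a) := by
    intro w g
    constructor
    · intro h1
      calc (a⁻¹ * g * a) * w = a⁻¹ * (g * (a * w * a⁻¹)) * a := by group
        _ = a⁻¹ * (a * w * a⁻¹ * g) * a := by rw [h1]
        _ = _ := by group
    · intro h1
      calc g * (a * w * a⁻¹) = a * ((a⁻¹ * g * a) * w) * a⁻¹ := by group
        _ = a * (w * (a⁻¹ * g * a)) * a⁻¹ := by rw [h1]
        _ = _ := by group
  intro g
  rw [key, key]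
  exact h _

theorem orderOf_conj_eq (g x : G) : orderOf (g * x * g⁻¹) = orderOf x :=
  MulEquiv.orderOf_eq (MulAut.conj g) x

/-- element of order four -/
def Four (x : G) : Prop := x * x ≠ 1 ∧ (x * x) * (x * x) = 1

theorem Four.inv {x : G} (h : Four x) : Inv (x * x) := ⟨h.1, h.2⟩

theorem Four.conj {x : G} (h : Four x) (g : G) : Four (g * x * g⁻¹) := by
  have h1 : g * x * g⁻¹ * (g * x * g⁻¹) = g * (x * x) * g⁻¹ := by group
  refine ⟨?_, ?_⟩
  · rw [h1]; exact (h.inv.conj g).1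
  · rw [h1]; exact (h.inv.conj g).2

theorem conj_sq (g x : G) : g * x * g⁻¹ * (g * x * g⁻¹) = g * (x * x) * g⁻¹ := by group

theorem Four.inv_sq {x : G} (h : Four x) : x⁻¹ * x⁻¹ = x * x := by
  have := h.2
  calc x⁻¹ * x⁻¹ = x⁻¹ * x⁻¹ * ((x * x) * (x * x)) := by rw [this, mul_one]
    _ = x * x := by simp [mul_assoc]

theorem Four.pow_four {x : G} (h : Four x) : x ^ 4 = 1 := by
  have := h.2
  calc x ^ 4 = (x * x) * (x * x) := by simp only [pow_succ, pow_zero, one_mul, mul_assoc]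
    _ = 1 := this

theorem Four.inv_eq {x : G} (h : Four x) : x⁻¹ = x * (x * x) := by
  rw [inv_eq_iff_mul_eq_one]
  calc x * (x * (x * x)) = (x * x) * (x * x) := by simp only [mul_assoc]
    _ = 1 := h.2

theorem Four.mem_zpowers {x : G} (h : Four x) {y : G} (hy : y ∈ Subgroup.zpowers x) :
    y = 1 ∨ y = x * x ∨ y = x ∨ y = x⁻¹ := by
  obtain ⟨k, rfl⟩ := Subgroup.mem_zpowers_iff.1 hy
  have h4 : x ^ (4 : ℤ) = 1 := by
    have := h.pow_four
    exact_mod_cast this
  have hk : x ^ k = x ^ (k % 4) := by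
    conv_lhs => rw [← Int.emod_add_mul_ediv k 4]
    rw [zpow_add, zpow_mul, h4, one_zpow, mul_one]
  have h0 : 0 ≤ k % 4 := Int.emod_nonneg k (by norm_num)
  have h3 : k % 4 < 4 := Int.emod_lt_of_pos k (by norm_num)
  rw [hk]
  generalize k % 4 = m at h0 h3
  interval_cases m
  · left; simp
  · right; right; left; simp
  · right; left
    show x ^ (2 : ℤ) = _
    rw [zpow_two]
  · right; right; right
    rw [h.inv_eq]
    show x ^ (3 : ℤ) = _
    rw [show (3 : ℤ) = 1 + 2 by norm_num, zpow_add, zpow_one, zpow_two]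

theorem Four.mem_zpowers' {x : G} (h : Four x) {y : G} (hy : y ∈ Subgroup.zpowers x) (hy2 : y * y ≠ 1) :
    y = x ∨ y = x⁻¹ := by
  rcases h.mem_zpowers hy with rfl | rfl | h1 | h1
  · exact absurd (mul_one 1) hy2
  · exact absurd h.2 hy2
  · exact Or.inl h1
  · exact Or.inr h1

theorem Four.not_odd {x : G} (h : Four x) : ¬ Odd (orderOf x) := by
  rintro ⟨k, hk⟩
  have h4 := orderOf_dvd_of_pow_eq_one h.pow_four
  have h5 : orderOf x ∣ 4 := h4
  have h6 : orderOf x ≤ 4 := Nat.le_of_dvd (by norm_num) h5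
  have h7 : orderOf x = 1 := by
    rw [hk] at h5 h6 ⊢
    have : k ≤ 1 := by omega
    interval_cases k
    · rfl
    · norm_num at h5
  rw [orderOf_eq_one_iff] at h7
  exact h.1 (by rw [h7, mul_one])

/-- commuting lemma -/
theorem comm_of_four {a b : G} (ha : Four a) (hb : Four b) (hne : a * a ≠ b * b)
    (hab : a * b * a⁻¹ ∈ Subgroup.zpowers b) (hba : b * a * b⁻¹ ∈ Subgroup.zpowers a) : a * b = b * a := by
  have h1 := hb.mem_zpowers' hab (hb.conj a).1
  have h2 := ha.mem_zpowers' hba (ha.conj b).1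
  rcases h1 with h1 | h1
  · exact mul_inv_eq_iff_eq_mul.1 h1
  rcases h2 with h2 | h2
  · exact (mul_inv_eq_iff_eq_mul.1 h2).symm
  exfalso
  apply hne
  -- `a b = b⁻¹ a`, `b a = a⁻¹ b`
  have h3 : a * b = b⁻¹ * a := mul_inv_eq_iff_eq_mul.1 h1
  have h4 : b * a = a⁻¹ * b := mul_inv_eq_iff_eq_mul.1 h2
  have h5 : a = b * a * b := by
    rw [mul_assoc, h3, mul_inv_cancel_left]
  calc a * a = a * (b * a * b) := by rw [← h5]
    _ = a * (a⁻¹ * b) * b := by rw [← h4]; group
    _ = b * b := by group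

/-! ### consequences of the condition -/

section cond

variable [Finite G] (H : NC G)
include H

theorem mem_normalizer_zpowers {x c : G} (h : c ∈ Subgroup.normalizer (Subgroup.zpowers x : Set G)) :
    c * x * c⁻¹ ∈ Subgroup.zpowers x :=
  (Subgroup.mem_normalizer_iff.1 h x).1 (Subgroup.mem_zpowers x)

theorem normalizer_inv {z c : G} (hz : Inv z) : c ∈ Subgroup.normalizer (Subgroup.zpowers z : Set G) ↔ c * z = z * c := by
  have hmem : ∀ y, y ∈ Subgroup.zpowers z ↔ y = 1 ∨ y = z := by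
    intro y
    constructor
    · intro hy
      obtain ⟨k, rfl⟩ := Subgroup.mem_zpowers_iff.1 hy
      have hz2 : z ^ (2 : ℤ) = 1 := by rw [zpow_two]; exact hz.2
      rcases Int.even_or_odd' k with ⟨m, rfl | rfl⟩
      · left; rw [zpow_mul, hz2, one_zpow]
      · right; rw [zpow_add, zpow_mul, hz2, one_zpow, one_mul, zpow_one]
    · rintro (rfl | rfl)
      · exact Subgroup.one_mem _
      · exact Subgroup.mem_zpowers _
  constructor
  · intro h
    have h1 := (hmem _).1 ((Subgroup.mem_normalizer_iff.1 h z).1 (Subgroup.mem_zpowers z))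
    rcases h1 with h1 | h1
    · exact absurd (conj_eq_one_iff.1 h1) hz.1
    · exact mul_inv_eq_iff_eq_mul.1 h1
  · intro h
    rw [Subgroup.mem_normalizer_iff]
    intro y
    show y ∈ Subgroup.zpowers z ↔ c * y * c⁻¹ ∈ Subgroup.zpowers z
    rw [hmem, hmem, conj_eq_one_iff]
    constructor
    · rintro (h1 | rfl)
      · exact Or.inl h1
      · right; rw [h, mul_inv_cancel_right]
    · rintro (h1 | h1)
      · exact Or.inl h1
      · right
        have : c * y = z * c := mul_inv_eq_iff_eq_mul.1 h1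
        rw [← h] at this
        exact mul_left_cancel this

/-- F1: cyclic subgroups containing an involution `z` are normalised by `C(z)` -/
theorem f1 {z x c : G} (hz : Inv z) (hzx : z ∈ Subgroup.zpowers x) (hc : c * z = z * c) :
    c * x * c⁻¹ ∈ Subgroup.zpowers x := by
  apply mem_normalizer_zpowers H
  have hle : Subgroup.zpowers z ≤ Subgroup.zpowers x := Subgroup.zpowers_le.2 hzx
  have heven : Even (Nat.card (Subgroup.zpowers x)) := by
    rw [even_iff_two_dvd, ← hz.orderOf]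
    exact Subgroup.orderOf_dvd_natCard _ hzx
  have h1 := H (Subgroup.zpowers x) inferInstance heven (Subgroup.zpowers z) hle
    (fun h => hz.1 ((Subgroup.zpowers_eq_bot).1 h))
  show c ∈ Subgroup.normalizer ((Subgroup.zpowers x : Subgroup G) : Set G)
  rw [h1]
  exact (normalizer_inv H hz).2 hc

theorem f1' {x c : G} (hx : Four x) (hc : c * (x * x) = (x * x) * c) : c * x * c⁻¹ ∈ Subgroup.zpowers x :=
  f1 H hx.inv (Subgroup.mul_mem _ (Subgroup.mem_zpowers x) (Subgroup.mem_zpowers x)) hc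

theorem f1'' {x c : G} (hx : Four x) (hc : c * (x * x) = (x * x) * c) : c * x * c⁻¹ = x ∨ c * x * c⁻¹ = x⁻¹ :=
  hx.mem_zpowers' (f1' H hx hc) (hx.conj c).1

/-- F2: nontrivial elements of odd order in `C(z)` -/
theorem f2 {z y : G} (hz : Inv z) (hzy : z * y = y * z) (hy : Odd (orderOf y)) (hy1 : y ≠ 1) (c : G) :
    c ∈ Subgroup.normalizer (Subgroup.zpowers y : Set G) ↔ c * z = z * c := by
  have hcop : (orderOf y).Coprime (orderOf z) := by
    rw [hz.orderOf]; exact Nat.coprime_two_right.2 hy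
  have hcomm : Commute y z := hzy.symm
  have h1 : orderOf (y * z) = orderOf y * orderOf z := hcomm.orderOf_mul_eq_mul_orderOf_of_coprime hcop
  -- `y` and `z` are powers of `y z`
  have hy' : y ∈ Subgroup.zpowers (y * z) := by
    have h2 : (y * z) ^ (orderOf y + 1) = y := by
      rw [hcomm.mul_pow]
      obtain ⟨k, hk⟩ := hy
      have h3 : z ^ (orderOf y + 1) = 1 := by
        have h4 : orderOf y + 1 = 2 * (k + 1) := by omega
        rw [h4, pow_mul, sq, hz.2, one_pow]
      rw [h3, mul_one, pow_succ, pow_orderOf_eq_one, one_mul]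
    have h5 := Subgroup.pow_mem (Subgroup.zpowers (y * z)) (Subgroup.mem_zpowers (y * z)) (orderOf y + 1)
    rwa [h2] at h5
  have hz' : z ∈ Subgroup.zpowers (y * z) := by
    have h5 := Subgroup.mul_mem _ (Subgroup.inv_mem _ hy') (Subgroup.mem_zpowers (y * z))
    rwa [inv_mul_cancel_left] at h5
  have heven : Even (Nat.card (Subgroup.zpowers (y * z))) := by
    rw [even_iff_two_dvd, ← hz.orderOf]
    exact Subgroup.orderOf_dvd_natCard _ hz'
  have h2 := H (Subgroup.zpowers (y * z)) inferInstance heven (Subgroup.zpowers z) (Subgroup.zpowers_le.2 hz')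
    (fun h => hz.1 ((Subgroup.zpowers_eq_bot).1 h))
  have h3 := H (Subgroup.zpowers (y * z)) inferInstance heven (Subgroup.zpowers y) (Subgroup.zpowers_le.2 hy')
    (fun h => hy1 ((Subgroup.zpowers_eq_bot).1 h))
  show c ∈ Subgroup.normalizer ((Subgroup.zpowers y : Subgroup G) : Set G) ↔ _
  rw [← h3, h2]
  exact normalizer_inv H hz

theorem f2a {z y c : G} (hz : Inv z) (hzy : z * y = y * z) (hy : Odd (orderOf y)) (hc : c * z = z * c) :
    c * y * c⁻¹ ∈ Subgroup.zpowers y := by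
  by_cases hy1 : y = 1
  · rw [hy1, mul_one, mul_inv_cancel]; exact Subgroup.one_mem _
  · exact mem_normalizer_zpowers H ((f2 H hz hzy hy hy1 c).2 hc)

theorem f2b {z y c : G} (hz : Inv z) (hzy : z * y = y * z) (hy : Odd (orderOf y)) (hy1 : y ≠ 1) (hc : c * y = y * c) :
    c * z = z * c := by
  refine (f2 H hz hzy hy hy1 c).1 ?_
  rw [Subgroup.mem_normalizer_iff]
  have h1 : ∀ k : ℤ, c * y ^ k * c⁻¹ = y ^ k := by
    intro k
    rw [← conj_zpow, mul_inv_eq_iff_eq_mul.2 hc]
  intro w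
  show w ∈ Subgroup.zpowers y ↔ c * w * c⁻¹ ∈ Subgroup.zpowers y
  constructor
  · intro hw
    obtain ⟨k, rfl⟩ := Subgroup.mem_zpowers_iff.1 hw
    rw [h1]; exact hw
  · intro hw
    obtain ⟨k, hk⟩ := Subgroup.mem_zpowers_iff.1 hw
    have h2 : w = y ^ k := by
      have h3 : c * w * c⁻¹ = c * y ^ k * c⁻¹ := by rw [h1, hk]
      exact mul_left_cancel (mul_right_cancel h3)
    rw [h2]; exact Subgroup.zpow_mem _ (Subgroup.mem_zpowers y) k

theorem same_of_odd {z s y : G} (hz : Inv z) (hs : Inv s) (hzy : z * y = y * z) (hsy : s * y = y * s)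
    (hy : Odd (orderOf y)) (hy1 : y ≠ 1) : Same z s := fun c =>
  (f2 H hz hzy hy hy1 c).symm.trans (f2 H hs hsy hy hy1 c)

theorem odd_mul {z y y' : G} (hz : Inv z) (hzy : z * y = y * z) (hy : Odd (orderOf y))
    (hzy' : z * y' = y' * z) (hy' : Odd (orderOf y')) : Odd (orderOf (y * y')) := by
  by_cases hy1 : y' = 1
  · rw [hy1, mul_one]; exact hy
  have hn : y ∈ Subgroup.normalizer (Subgroup.zpowers y' : Set G) := (f2 H hz hzy' hy' hy1 y).2 hzy.symm
  have key : ∀ n : ℕ, ∃ w ∈ Subgroup.zpowers y', (y * y') ^ n = y ^ n * w := by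
    intro n
    induction n with
    | zero => exact ⟨1, Subgroup.one_mem _, by simp⟩
    | succ n ih =>
      obtain ⟨w, hw, hw'⟩ := ih
      refine ⟨(y⁻¹ * w * y) * y', Subgroup.mul_mem _ ?_ (Subgroup.mem_zpowers y'), ?_⟩
      · have := (Subgroup.mem_normalizer_iff.1 (Subgroup.inv_mem _ hn) w).1 hw
        simpa using this
      · rw [pow_succ, hw', pow_succ]; group
  obtain ⟨w, hw, hw'⟩ := key (orderOf y)
  rw [pow_orderOf_eq_one, one_mul] at hw'
  have h1 : (y * y') ^ (orderOf y * orderOf y') = 1 := by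
    rw [pow_mul, hw']
    exact orderOf_dvd_iff_pow_eq_one.1 (orderOf_dvd_of_mem_zpowers hw)
  exact Odd.of_dvd_nat (hy.mul hy') (orderOf_dvd_of_pow_eq_one h1)

/-- the odd order elements of `C(z)` -/
def KK (z : G) (hz : Inv z) : Subgroup G where
  carrier := {y | z * y = y * z ∧ Odd (orderOf y)}
  one_mem' := ⟨by rw [mul_one, one_mul], by rw [orderOf_one]; exact odd_one⟩
  mul_mem' := by
    rintro a b ⟨ha, ha'⟩ ⟨hb, hb'⟩
    refine ⟨?_, odd_mul H hz ha ha' hb hb'⟩
    rw [← mul_assoc, ha, mul_assoc, hb, mul_assoc]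
  inv_mem' := by
    rintro a ⟨ha, ha'⟩
    refine ⟨?_, by rwa [orderOf_inv]⟩
    calc z * a⁻¹ = a⁻¹ * (a * z) * a⁻¹ := by group
      _ = a⁻¹ * (z * a) * a⁻¹ := by rw [ha]
      _ = a⁻¹ * z := by group

omit [Finite G] H in
/-- all cyclic subgroups normal ⇒ all subgroups normal -/
theorem all_normal {K : Type*} [Group K] (h : ∀ c x : K, c * x * c⁻¹ ∈ Subgroup.zpowers x) (N : Subgroup K) : N.Normal := by
  constructor
  intro n hn g
  exact (Subgroup.zpowers_le.2 hn) (h g n)

omit H in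
theorem comm_or_q8 (C : Subgroup G) (h : ∀ c ∈ C, ∀ x ∈ C, c * x * c⁻¹ ∈ Subgroup.zpowers x) :
    (∀ a ∈ C, ∀ b ∈ C, a * b = b * a) ∨ ∃ a ∈ C, ∃ b ∈ C, Four a ∧ Four b ∧ a * a = b * b ∧ a * b * a⁻¹ = b⁻¹ := by
  by_cases hc : ∀ a ∈ C, ∀ b ∈ C, a * b = b * a
  · exact Or.inl hc
  right
  push Not at hc
  obtain ⟨a, ha, b, hb, hab⟩ := hc
  have hn : ∀ N : Subgroup C, N.Normal := by
    intro N
    apply all_normal
    intro c x
    obtain ⟨k, hk⟩ := Subgroup.mem_zpowers_iff.1 (h c c.2 x x.2)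
    exact Subgroup.mem_zpowers_iff.2 ⟨k, Subtype.ext (by rw [Subgroup.coe_zpow, hk]; rfl)⟩
  obtain ⟨x, y, hx, hy, hxy, hxyx⟩ := Cfsg.Agent.S4211.exists_q8 hn ⟨⟨a, ha⟩, ⟨b, hb⟩, fun e => hab (congrArg Subtype.val e)⟩
  have hfour : ∀ x : C, orderOf x = 4 → Four (x : G) := by
    intro x hx
    have h4 : x ^ 4 = 1 := by rw [← hx]; exact pow_orderOf_eq_one x
    constructor
    · intro h1
      have h2 : x ^ 2 = 1 := Subtype.ext (by rw [sq]; exact h1)
      have := orderOf_dvd_of_pow_eq_one h2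
      rw [hx] at this
      norm_num at this
    · have := congrArg Subtype.val h4
      calc ((x : G) * x) * ((x : G) * x) = (x : G) ^ 4 := by simp only [pow_succ, pow_zero, one_mul, mul_assoc]
        _ = 1 := this
  refine ⟨x, x.2, y, y.2, hfour x hx, hfour y hy, ?_, ?_⟩
  · have := congrArg Subtype.val hxy
    rw [sq, sq] at this
    exact this
  · exact congrArg Subtype.val hxyx

/-- F3: the odd order elements of `C(z)` commute -/
theorem f3 {z y y' : G} (hz : Inv z) (hzy : z * y = y * z) (hy : Odd (orderOf y))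
    (hzy' : z * y' = y' * z) (hy' : Odd (orderOf y')) : y * y' = y' * y := by
  rcases comm_or_q8 (KK H z hz) (fun c hc x hx => f2a H hz hx.1 hx.2 hc.1.symm) with h | ⟨a, ha, b, hb, hfa, -, -, -⟩
  · exact h y ⟨hzy, hy⟩ y' ⟨hzy', hy'⟩
  · exact absurd ha.2 hfa.not_odd

/-- F4 -/
theorem f4 {z s : G} (hz : Inv z) (hs : Inv s) (hzs : z * s = s * z) :
    Same z s ∨ ∀ y, z * y = y * z → Odd (orderOf y) → s * y * s⁻¹ = y⁻¹ := by
  by_cases h : ∃ y, z * y = y * z ∧ Odd (orderOf y) ∧ y ≠ 1 ∧ s * y = y * s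
  · obtain ⟨y, h1, h2, h3, h4⟩ := h
    exact Or.inl (same_of_odd H hz hs h1 h4 h2 h3)
  · right
    push Not at h
    intro y hzy hy
    have hy' : s * y * s⁻¹ ∈ Subgroup.zpowers y := f2a H hz hzy hy hzs.symm
    obtain ⟨k, hk⟩ := Subgroup.mem_zpowers_iff.1 hy'
    have hcomm : y * (s * y * s⁻¹) = (s * y * s⁻¹) * y := by rw [← hk]; group
    have hzk : z * (s * y * s⁻¹) = (s * y * s⁻¹) * z :=
      ((show Commute z s from hzs).mul_right (show Commute z y from hzy)).mul_right (show Commute z s from hzs).inv_right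
    have hodd : Odd (orderOf (s * y * s⁻¹)) := by rwa [orderOf_conj_eq]
    have hp : Odd (orderOf (y * (s * y * s⁻¹))) := odd_mul H hz hzy hy hzk hodd
    have hpz : z * (y * (s * y * s⁻¹)) = (y * (s * y * s⁻¹)) * z :=
      (show Commute z y from hzy).mul_right (show Commute z (s * y * s⁻¹) from hzk)
    by_contra hne
    have hp1 : y * (s * y * s⁻¹) ≠ 1 := by
      intro h1
      exact hne (eq_inv_of_mul_eq_one_right h1)
    apply h _ hpz hp hp1
    calc s * (y * (s * y * s⁻¹)) = (s * y * s⁻¹) * (s * s) * y * s⁻¹ := by group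
      _ = (s * y * s⁻¹) * y * s⁻¹ := by rw [hs.2, mul_one]
      _ = (y * (s * y * s⁻¹)) * s⁻¹ := by rw [hcomm]
      _ = _ := by rw [hs.inv]

end cond

end Cfsg.Agent.NCy
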