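import Cfsg.Agent.NCy.Elem2

set_option autoImplicit false
set_option linter.unusedSectionVars false

/-! # The dihedral case (helper2) -/

namespace Cfsg.Agent.NCy

open Cfsg.Agent.AbC

universe u

variable {G : Type u} [Group G]

/-- the dihedral configuration: `z = x²`, `s = x'²` conjugate, `s` inverts `x` -/
structure DC (x x' : G) : Prop where
  fx : Four x
  hg : ∃ g, x' = g * x * g⁻¹
  zs : Commute (x * x) (x' * x')
  ne : x * x ≠ x' * x'
  inv : (x' * x') * x * (x' * x')⁻¹ = x⁻¹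

namespace DC

variable {x x' : G} (C : DC x x')
include C

theorem fx' : Four x' := by obtain ⟨g, rfl⟩ := C.hg; exact C.fx.conj g
theorem sI : Inv (x' * x') := C.fx'.inv
theorem zI : Inv (x * x) := C.fx.inv

theorem not_sx : ¬ Commute (x' * x') x := by
  intro h
  have h1 := C.inv
  rw [h.eq, mul_inv_cancel_right] at h1
  apply C.fx.1
  nth_rewrite 1 [h1]
  exact inv_mul_cancel x

theorem not_same : ¬ Same (x * x) (x' * x') := by
  intro h
  exact C.not_sx (h.comm_iff.1 ((Commute.refl x).mul_right (Commute.refl x))).symm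

variable [Finite G] (H : NC G)
include H

theorem inv' : (x * x) * x' * (x * x)⁻¹ = x'⁻¹ := by
  rcases f1'' H C.fx' C.zs.eq with h | h
  · exfalso
    have h1 : Commute (x * x) x' := mul_inv_eq_iff_eq_mul.1 h
    rcases f1'' H C.fx h1.symm.eq with h2 | h2
    · have h3 : Commute x' x := mul_inv_eq_iff_eq_mul.1 h2
      exact C.not_sx (h3.mul_left h3)
    · apply C.not_sx
      apply mul_inv_eq_iff_eq_mul.1
      calc x' * x' * x * (x' * x')⁻¹ = x' * (x' * x * x'⁻¹) * x'⁻¹ := by group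
        _ = x' * x⁻¹ * x'⁻¹ := by rw [h2]
        _ = (x' * x * x'⁻¹)⁻¹ := conj_inv_eq _ _
        _ = x := by rw [h2, inv_inv]
  · exact h

theorem d1 {d : G} (hz : Commute d (x * x)) (hs : Commute d (x' * x')) (hd : Odd (orderOf d)) : d = 1 := by
  by_contra hd1
  exact C.not_same (same_of_odd H C.zI C.sI hz.symm.eq hs.symm.eq hd hd1)

theorem d2aux (hns : NS G) {y s d : G} (hy : Four y) (hs : Inv s) (hsd : Commute s d) (hsy : s * y * s⁻¹ = y⁻¹) (hd : Four d)
    (hdy : Commute d (y * y)) : d * d = y * y := by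
  rcases f1'' H hy hdy.eq with h | h
  · by_contra hne
    exact no_cfg H hns ⟨hd, hy, mul_inv_eq_iff_eq_mul.1 h, hne⟩
  · have h1 : Commute (d * s) y := by
      apply mul_inv_eq_iff_eq_mul.1
      calc d * s * y * (d * s)⁻¹ = d * (s * y * s⁻¹) * d⁻¹ := by group
        _ = d * y⁻¹ * d⁻¹ := by rw [hsy]
        _ = (d * y * d⁻¹)⁻¹ := conj_inv_eq _ _
        _ = y := by rw [h, inv_inv]
    have h2 : (d * s) * (d * s) = d * d := by
      calc (d * s) * (d * s) = d * (s * d) * s := by group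
        _ = d * (d * s) * s := by rw [hsd.eq]
        _ = d * d * (s * s) := by group
        _ = d * d := by rw [hs.2, mul_one]
    by_contra hne
    exact no_cfg H hns ⟨⟨by rw [h2]; exact hd.1, by rw [h2]; exact hd.2⟩, hy, h1, by rw [h2]; exact hne⟩

theorem d2 (hns : NS G) {d : G} (hz : Commute d (x * x)) (hs : Commute d (x' * x')) : ¬ Four d := by
  intro hd
  have h1 := C.d2aux H hns C.fx C.sI hs.symm C.inv hd hz
  have h2 := C.d2aux H hns C.fx' C.zI hz.symm (C.inv' H) hd hs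
  exact C.ne (h1.symm.trans h2)

theorem dsq (hns : NS G) {d : G} (hz : Commute d (x * x)) (hs : Commute d (x' * x')) : d * d = 1 := by
  obtain ⟨i, j, h1, h2, h3⟩ := decomp' d (fun n => C.d2 H hns (hz.pow_left n) (hs.pow_left n))
  have h4 := C.d1 H (hz.pow_left j) (hs.pow_left j) h3
  rw [h4, mul_one] at h1
  rw [h1]; exact h2

theorem xs : x * (x' * x') * x⁻¹ = (x * x) * (x' * x') := by
  have h := C.inv
  calc x * (x' * x') * x⁻¹ = x * ((x' * x') * x⁻¹ * (x' * x')⁻¹) * (x' * x') := by group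
    _ = x * ((x' * x') * x * (x' * x')⁻¹)⁻¹ * (x' * x') := by rw [conj_inv_eq]
    _ = _ := by rw [h, inv_inv]

theorem xs' : x' * (x * x) * x'⁻¹ = (x' * x') * (x * x) := by
  have h := C.inv' H
  calc x' * (x * x) * x'⁻¹ = x' * ((x * x) * x'⁻¹ * (x * x)⁻¹) * (x * x) := by group
    _ = x' * ((x * x) * x' * (x * x)⁻¹)⁻¹ * (x * x) := by rw [conj_inv_eq]
    _ = _ := by rw [h, inv_inv]

/-- no involution commutes with `x` and `x'` -/
theorem no_e {e : G} (he : Inv e) (h : Commute e x) (h' : Commute e x') : False := by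
  set z := x * x with hz
  set s := x' * x' with hs
  have hzI := C.zI
  have hsI := C.sI
  have hzs : Commute z s := C.zs
  have hzx : Commute z x := (Commute.refl x).mul_left (Commute.refl x)
  have hsx' : Commute s x' := (Commute.refl x').mul_left (Commute.refl x')
  set w := x * x' with hw
  have h1 : w * z * w⁻¹ = s := by
    calc w * z * w⁻¹ = x * (x' * z * x'⁻¹) * x⁻¹ := by rw [hw]; group
      _ = x * (s * z) * x⁻¹ := by rw [C.xs' H]
      _ = (x * s * x⁻¹) * (x * z * x⁻¹) := by group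
      _ = (z * s) * z := by rw [C.xs H, hzx.symm.eq, mul_inv_cancel_right]
      _ = (s * z) * z := by rw [hzs.eq]
      _ = s := by rw [mul_assoc, hzI.2, mul_one]
  have h2 : w * s * w⁻¹ = z * s := by
    calc w * s * w⁻¹ = x * (x' * s * x'⁻¹) * x⁻¹ := by rw [hw]; group
      _ = x * s * x⁻¹ := by rw [hsx'.symm.eq, mul_inv_cancel_right]
      _ = z * s := C.xs H
  have h3 : w * (z * s) * w⁻¹ = z := by
    calc w * (z * s) * w⁻¹ = (w * z * w⁻¹) * (w * s * w⁻¹) := by group
      _ = s * (z * s) := by rw [h1, h2]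
      _ = s * (s * z) := by rw [hzs.eq]
      _ = z := by rw [← mul_assoc, hsI.2, one_mul]
  have hpow : ∀ n : ℕ, w ^ n * z * (w ^ n)⁻¹ = z ∨ w ^ n * z * (w ^ n)⁻¹ = s ∨ w ^ n * z * (w ^ n)⁻¹ = z * s := by
    intro n
    induction n with
    | zero => left; simp
    | succ n ih =>
      have h4 : w ^ (n + 1) * z * (w ^ (n + 1))⁻¹ = w * (w ^ n * z * (w ^ n)⁻¹) * w⁻¹ := by rw [pow_succ']; group
      rw [h4]
      rcases ih with ih | ih | ih <;> rw [ih]
      · right; left; exact h1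
      · right; right; exact h2
      · left; exact h3
  have hcube : Commute (w ^ 3) z := by
    apply mul_inv_eq_iff_eq_mul.1
    calc w ^ 3 * z * (w ^ 3)⁻¹ = w * (w * (w * z * w⁻¹) * w⁻¹) * w⁻¹ := by
          simp only [pow_succ, pow_zero, one_mul, mul_inv_rev, mul_assoc]
      _ = z := by rw [h1, h2, h3]
  obtain ⟨a, m, hm, ham⟩ := Nat.exists_eq_two_pow_mul_odd (orderOf_pos w).ne'
  have hcomm_e : Commute e w := h.mul_right h'
  have hodd : Odd (orderOf (w ^ 2 ^ a)) := by
    rw [orderOf_pow, ham, Nat.gcd_mul_right_left, Nat.mul_div_cancel_left m (by positivity)]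
    exact hm
  set y := w ^ 2 ^ a with hy
  have h5 : z * y * z⁻¹ ∈ Subgroup.zpowers y :=
    f2a H he (hcomm_e.pow_right _).eq hodd ((h.mul_right h).symm).eq
  have h6 : z * y * z⁻¹ * y⁻¹ ∈ Subgroup.zpowers y := Subgroup.mul_mem _ h5 (Subgroup.inv_mem _ (Subgroup.mem_zpowers y))
  have h7 : z * y * z⁻¹ * y⁻¹ = z * (y * z * y⁻¹) := by
    rw [show z⁻¹ = z from hzI.inv]; simp only [mul_assoc]
  have h8 : Commute z (y * z * y⁻¹) := by
    rcases hpow (2 ^ a) with h8 | h8 | h8 <;> rw [← hy] at h8 <;> rw [h8]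
    · exact hzs
    · exact (Commute.refl z).mul_right hzs
  have h9 : (z * (y * z * y⁻¹)) * (z * (y * z * y⁻¹)) = 1 := by
    calc (z * (y * z * y⁻¹)) * (z * (y * z * y⁻¹)) = z * ((y * z * y⁻¹) * z) * (y * z * y⁻¹) := by group
      _ = z * (z * (y * z * y⁻¹)) * (y * z * y⁻¹) := by rw [h8.eq]
      _ = (z * z) * (y * (z * z) * y⁻¹) := by group
      _ = 1 := by rw [hzI.2]; group
  have h10 : z * (y * z * y⁻¹) = 1 := by
    apply eq_one_of_odd_sq _ h9
    rw [← h7]
    exact Odd.of_dvd_nat hodd (orderOf_dvd_of_mem_zpowers h6)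
  have h11 : Commute y z := by
    apply mul_inv_eq_iff_eq_mul.1
    have := eq_inv_of_mul_eq_one_right h10
    rw [this, hzI.inv]
  -- `w` commutes with `z`
  have h12 : Commute w z := by
    have h13 : 2 ^ a % 3 = 1 ∨ 2 ^ a % 3 = 2 := by
      clear * -
      induction a with
      | zero => left; rfl
      | succ n ih => rw [pow_succ]; omega
    have h14 : 2 ^ a = 3 * (2 ^ a / 3) + 2 ^ a % 3 := (Nat.div_add_mod _ _).symm
    have h15 : Commute (w ^ (2 ^ a % 3)) z := by
      have h16 : w ^ (2 ^ a % 3) = ((w ^ 3) ^ (2 ^ a / 3))⁻¹ * y := by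
        rw [hy]
        conv_rhs => rw [h14]
        rw [pow_add, pow_mul]
        rw [← h14]
        group
      rw [h16]
      exact ((hcube.pow_left _).inv_left).mul_left h11
    rcases h13 with h13 | h13
    · rw [h13, pow_one] at h15; exact h15
    · rw [h13] at h15
      have h17 : w = w ^ 3 * (w ^ 2)⁻¹ := by group
      rw [h17]
      exact hcube.mul_left h15.inv_left
  apply C.ne
  rw [h12.eq, mul_inv_cancel_right] at h1
  exact h1

/-- `C(z) ∩ C(s) = {1, z, s, z s}` -/
theorem d3 (hns : NS G) {d : G} (hz : Commute d (x * x)) (hs : Commute d (x' * x')) :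
    d = 1 ∨ d = x * x ∨ d = x' * x' ∨ d = (x * x) * (x' * x') := by
  by_contra hcon
  push Not at hcon
  obtain ⟨n1, n2, n3, n4⟩ := hcon
  have hzI := C.zI
  have hsI := C.sI
  have hzs := C.zs
  have hzx : Commute (x * x) x := (Commute.refl x).mul_left (Commute.refl x)
  have hsx' : Commute (x' * x') x' := (Commute.refl x').mul_left (Commute.refl x')
  -- adjust `d` to commute with `x`
  obtain ⟨e, he, hez, hes, hex⟩ : ∃ e, (e = d ∨ e = d * (x' * x')) ∧ Commute e (x * x) ∧ Commute e (x' * x') ∧ Commute e x := by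
    rcases f1'' H C.fx hz.eq with h | h
    · exact ⟨d, Or.inl rfl, hz, hs, mul_inv_eq_iff_eq_mul.1 h⟩
    · refine ⟨d * (x' * x'), Or.inr rfl, hz.mul_left hzs.symm, hs.mul_left (Commute.refl _), ?_⟩
      apply mul_inv_eq_iff_eq_mul.1
      calc d * (x' * x') * x * (d * (x' * x'))⁻¹ = d * ((x' * x') * x * (x' * x')⁻¹) * d⁻¹ := by group
        _ = d * x⁻¹ * d⁻¹ := by rw [C.inv]
        _ = (d * x * d⁻¹)⁻¹ := conj_inv_eq _ _
        _ = x := by rw [h, inv_inv]
  obtain ⟨f, hf, hfz, hfs, hfx, hfx'⟩ : ∃ f, (f = e ∨ f = e * (x * x)) ∧ Commute f (x * x) ∧ Commute f (x' * x') ∧ Commute f x ∧ Commute f x' := by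
    rcases f1'' H C.fx' hes.eq with h | h
    · exact ⟨e, Or.inl rfl, hez, hes, hex, mul_inv_eq_iff_eq_mul.1 h⟩
    · refine ⟨e * (x * x), Or.inr rfl, hez.mul_left (Commute.refl _), hes.mul_left hzs, hex.mul_left hzx, ?_⟩
      apply mul_inv_eq_iff_eq_mul.1
      calc e * (x * x) * x' * (e * (x * x))⁻¹ = e * ((x * x) * x' * (x * x)⁻¹) * e⁻¹ := by group
        _ = e * x'⁻¹ * e⁻¹ := by rw [C.inv' H]
        _ = (e * x' * e⁻¹)⁻¹ := conj_inv_eq _ _
        _ = x' := by rw [h, inv_inv]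
  have hf1 : f ≠ 1 := by
    intro hf1
    rcases hf with hf | hf <;> rcases he with he | he
    · exact n1 (by rw [← he, ← hf, hf1])
    · apply n3
      have h5 : d * (x' * x') = 1 := by rw [← he, ← hf, hf1]
      rw [mul_eq_one_iff_eq_inv.1 h5, hsI.inv]
    · apply n2
      have h5 : d * (x * x) = 1 := by rw [← he, ← hf, hf1]
      rw [mul_eq_one_iff_eq_inv.1 h5, hzI.inv]
    · apply n4
      have h5 : d * (x' * x') * (x * x) = 1 := by rw [← he, ← hf, hf1]
      rw [mul_assoc] at h5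
      rw [mul_eq_one_iff_eq_inv.1 h5, mul_inv_rev, hsI.inv, hzI.inv]
  exact C.no_e H ⟨hf1, C.dsq H hns hfz hfs⟩ hfx hfx'

end DC

end Cfsg.Agent.NCy
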