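import Cfsg.Agent.NCy.Dih

set_option autoImplicit false
set_option linter.unusedSectionVars false

/-! # The dihedral case: structure of the centraliser (helper2) -/

namespace Cfsg.Agent.NCy

open Cfsg.Agent.AbC

universe u

variable {G : Type u} [Group G]

theorem conj_split (s x u : G) : s * u * s⁻¹ = (s * x * s⁻¹)⁻¹ * (s * (x * u) * s⁻¹) := by group

/-- the centraliser of `x` -/
def CK (x : G) : Subgroup G := Subgroup.centralizer ({x} : Set G)

theorem mem_CK {x k : G} : k ∈ CK x ↔ Commute k x := Subgroup.mem_centralizer_singleton_iff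

namespace DC

variable {x x' : G} [Finite G] (C : DC x x') (H : NC G) (hns : NS G)
include C H hns

theorem kz {k : G} (hk : k ∈ CK x) : Commute k (x * x) := (mem_CK.1 hk).mul_right (mem_CK.1 hk)

theorem k0 {k : G} (hk : k ∈ CK x) (hs : Commute k (x' * x')) : k = 1 ∨ k = x * x := by
  have hzx : Commute (x * x) x := (Commute.refl x).mul_left (Commute.refl x)
  rcases C.d3 H hns (kz C H hns hk) hs with h | h | h | h
  · exact Or.inl h
  · exact Or.inr h
  · exfalso
    rw [h] at hk
    exact C.not_sx (mem_CK.1 hk)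
  · exfalso
    rw [h] at hk
    apply C.not_sx
    have h1 : x' * x' = (x * x)⁻¹ * ((x * x) * (x' * x')) := by group
    rw [h1]
    exact hzx.inv_left.mul_left (mem_CK.1 hk)

theorem k1 {u : G} (hu : u ∈ CK x) (hui : Inv u) : u = x * x := by
  by_contra hne
  have hux := mem_CK.1 hu
  have huz := kz C H hns hu
  have hsq : (x * u) * (x * u) = x * x := by
    calc (x * u) * (x * u) = x * (u * x) * u := by group
      _ = x * (x * u) * u := by rw [hux.eq]
      _ = x * x * (u * u) := by group
      _ = x * x := by rw [hui.2, mul_one]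
  have hF : Four (x * u) := ⟨by rw [hsq]; exact C.fx.1, by rw [hsq]; exact C.fx.2⟩
  have h1 := f1'' H (c := x' * x') hF (by rw [hsq]; exact C.zs.symm.eq)
  have h2 : (x' * x') * u * (x' * x')⁻¹ = x * ((x' * x') * (x * u) * (x' * x')⁻¹) := by
    calc (x' * x') * u * (x' * x')⁻¹ = ((x' * x') * x * (x' * x')⁻¹)⁻¹ * ((x' * x') * (x * u) * (x' * x')⁻¹) := conj_split _ _ _
      _ = _ := by rw [C.inv, inv_inv]
  rcases h1 with h1 | h1
  · -- `x u` commutes with `s`
    have h3 : Commute (x * u) (x' * x') := (show Commute (x' * x') (x * u) from mul_inv_eq_iff_eq_mul.1 h1).symm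
    have h4 : x * u ∈ CK x := mem_CK.2 ((Commute.refl x).mul_left hux)
    rcases C.k0 H hns h4 h3 with h5 | h5
    · exact hF.1 (by rw [h5, mul_one])
    · exact hF.1 (by rw [h5]; exact C.fx.2)
  · rw [h1, mul_inv_rev x u] at h2
    have h3 : (x' * x') * u * (x' * x')⁻¹ = u := by
      rw [h2, hui.inv]
      calc x * (u * x⁻¹) = (x * u) * x⁻¹ := by group
        _ = (u * x) * x⁻¹ := by rw [hux.eq]
        _ = u := by group
    have h4 : Commute u (x' * x') := (show Commute (x' * x') u from mul_inv_eq_iff_eq_mul.1 h3).symm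
    rcases C.k0 H hns hu h4 with h5 | h5
    · exact hui.1 h5
    · exact hne h5

theorem k2 {k : G} (hk : k ∈ CK x) : (x' * x') * k * (x' * x')⁻¹ = k⁻¹ := by
  have hsI := C.sI
  have hkz := kz C H hns hk
  by_cases hodd : Odd (orderOf k)
  · rcases f4 H C.zI hsI C.zs.eq with h | h
    · exact absurd h C.not_same
    · exact h k hkz.symm.eq hodd
  · obtain ⟨n, hn⟩ := exists_inv_pow (Nat.not_odd_iff_even.1 hodd)
    have hkn : k ^ n = x * x := C.k1 H hns (Subgroup.pow_mem _ hk n) hn
    have hzk : x * x ∈ Subgroup.zpowers k := by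
      rw [← hkn]; exact Subgroup.pow_mem _ (Subgroup.mem_zpowers k) n
    have h1 := f1 H C.zI hzk C.zs.symm.eq
    set s := x' * x' with hs
    set k' := s * k * s⁻¹ with hk'
    have hkk' : Commute k' k := by
      obtain ⟨m, hm⟩ := Subgroup.mem_zpowers_iff.1 h1
      rw [← hm]
      exact (Commute.refl k).zpow_left m
    have hk'K : k' ∈ CK x := (Subgroup.zpowers_le.2 hk) h1
    have h2 : s * k' * s⁻¹ = k := by
      rw [hk']
      calc s * (s * k * s⁻¹) * s⁻¹ = (s * s) * k * (s * s)⁻¹ := by group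
        _ = k := by rw [hsI.2]; group
    have h3 : Commute (k * k') s := by
      have : s * (k * k') * s⁻¹ = k * k' := by
        calc s * (k * k') * s⁻¹ = (s * k * s⁻¹) * (s * k' * s⁻¹) := by group
          _ = k' * k := by rw [h2]
          _ = k * k' := hkk'.eq
      exact (show Commute s (k * k') from mul_inv_eq_iff_eq_mul.1 this).symm
    rcases C.k0 H hns (Subgroup.mul_mem _ hk hk'K) h3 with h4 | h4
    · exact eq_inv_of_mul_eq_one_right h4
    · exfalso
      have h5 : (s * k) * (s * k) = x * x := by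
        calc (s * k) * (s * k) = (s * k * s) * k := by group
          _ = (s * k * s⁻¹) * k := by rw [show s⁻¹ = s from hsI.inv]
          _ = k' * k := rfl
          _ = k * k' := hkk'.eq
          _ = x * x := h4
      have hF : Four (s * k) := ⟨by rw [h5]; exact C.fx.1, by rw [h5]; exact C.fx.2⟩
      have h6 := f1'' H (c := k) hF (by rw [h5]; exact hkz.eq)
      have h7 : k * (s * k) * k⁻¹ = k * s := by group
      rw [h7] at h6
      have hk2 : k = k⁻¹ → False := by
        intro h
        have h8 : k * k = 1 := by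
          nth_rewrite 1 [h]; exact inv_mul_cancel k
        rcases inv_or_one h8 with h9 | h9
        · rw [h9] at hodd; exact hodd (by rw [orderOf_one]; exact odd_one)
        · have h10 := C.k1 H hns hk h9
          have h11 : k' = k := by
            rw [hk', h10, C.zs.symm.eq, mul_inv_cancel_right]
          rw [h11, h8] at h4
          exact C.fx.1 h4.symm
      rcases h6 with h6 | h6
      · -- `k` commutes with `s`
        have h8 : k' = k := by
          rw [hk', ← h6, mul_inv_cancel_right]
        rw [h8] at h4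
        rcases C.k0 H hns hk (show Commute k s from h6) with h9 | h9
        · rw [h9] at h4; exact C.fx.1 (by rw [← h4, mul_one])
        · apply C.fx.1
          rw [← h4, h9]; exact C.fx.2
      · rw [mul_inv_rev, show s⁻¹ = s from hsI.inv] at h6
        exact hk2 (mul_right_cancel h6)

theorem k3 {a b : G} (ha : a ∈ CK x) (hb : b ∈ CK x) : a * b = b * a := by
  have h1 := C.k2 H hns ha
  have h2 := C.k2 H hns hb
  have h3 := C.k2 H hns (Subgroup.mul_mem _ ha hb)
  have h4 : (x' * x') * (a * b) * (x' * x')⁻¹ = a⁻¹ * b⁻¹ := by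
    calc (x' * x') * (a * b) * (x' * x')⁻¹ = ((x' * x') * a * (x' * x')⁻¹) * ((x' * x') * b * (x' * x')⁻¹) := by group
      _ = _ := by rw [h1, h2]
  rw [h4] at h3
  have h5 : (b * a)⁻¹ = (a * b)⁻¹ := by rw [mul_inv_rev]; exact h3
  exact (inv_injective h5).symm

theorem k4 {c : G} (hc : Commute c (x * x)) : c ∈ CK x ∨ c * (x' * x') ∈ CK x := by
  rcases f1'' H C.fx hc.eq with h | h
  · exact Or.inl (mem_CK.2 (mul_inv_eq_iff_eq_mul.1 h))
  · right
    apply mem_CK.2
    apply mul_inv_eq_iff_eq_mul.1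
    calc c * (x' * x') * x * (c * (x' * x'))⁻¹ = c * ((x' * x') * x * (x' * x')⁻¹) * c⁻¹ := by group
      _ = c * x⁻¹ * c⁻¹ := by rw [C.inv]
      _ = (c * x * c⁻¹)⁻¹ := conj_inv_eq _ _
      _ = x := by rw [h, inv_inv]

theorem s_not : x' * x' ∉ CK x := fun h => C.not_sx (mem_CK.1 h)

theorem k5 {u w : G} (hu : u ∈ CK x) (hu1 : u ≠ 1) (huz : u ≠ x * x) (hw : Commute w u) : w ∈ CK x := by
  have hwz : Commute w (x * x) := by
    by_cases hodd : Odd (orderOf u)
    · exact f2b H C.zI (kz C H hns hu).symm.eq hodd hu1 hw.eq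
    · obtain ⟨n, hn⟩ := exists_inv_pow (Nat.not_odd_iff_even.1 hodd)
      have hkn : u ^ n = x * x := C.k1 H hns (Subgroup.pow_mem _ hu n) hn
      rw [← hkn]
      exact hw.pow_right n
  rcases C.k4 H hns hwz with h | h
  · exact h
  · exfalso
    have h1 : w * u * w⁻¹ = u⁻¹ := by
      have h2 := C.k2 H hns hu
      have h3 := C.k3 H hns h (Subgroup.inv_mem _ hu)
      calc w * u * w⁻¹ = (w * (x' * x')) * ((x' * x')⁻¹ * u * (x' * x')) * (w * (x' * x'))⁻¹ := by group
        _ = (w * (x' * x')) * ((x' * x') * u * (x' * x')⁻¹) * (w * (x' * x'))⁻¹ := by rw [C.sI.inv]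
        _ = (w * (x' * x')) * u⁻¹ * (w * (x' * x'))⁻¹ := by rw [h2]
        _ = u⁻¹ := by rw [h3, mul_inv_cancel_right]
    rw [hw.eq, mul_inv_cancel_right] at h1
    have h8 : u * u = 1 := by
      nth_rewrite 1 [h1]; exact inv_mul_cancel u
    rcases inv_or_one h8 with h9 | h9
    · exact hu1 h9
    · exact huz (C.k1 H hns hu h9)

end DC

end Cfsg.Agent.NCy
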