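import Cfsg.Agent.NCy.Four
import Cfsg.Agent.NCy.AbUse

set_option autoImplicit false
set_option linter.unusedSectionVars false

/-! # No `Z4 × Z4`, conclusion (helper2) -/

namespace Cfsg.Agent.NCy

open Cfsg.Agent.AbC

universe u

variable {G : Type u} [Group G]

theorem conj_inv_eq (a y : G) : a * y⁻¹ * a⁻¹ = (a * y * a⁻¹)⁻¹ := by group

theorem Same.comm_iff {u v g : G} (h : Same u v) : Commute g u ↔ Commute g v := h g

theorem comm_of_same [Finite G] (H : NC G) {a b : G} (ha : Four a) (hb : Four b) (hs : Same (a * a) (b * b))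
    (hne : a * a ≠ b * b) : Commute a b := by
  have h1 : Commute a (b * b) := hs.comm_iff.1 ((Commute.refl a).mul_right (Commute.refl a))
  have h2 : Commute b (a * a) := hs.comm_iff.2 ((Commute.refl b).mul_right (Commute.refl b))
  exact comm_of_four ha hb hne (f1' H hb h1.eq) (f1' H ha h2.eq)

/-- involutions `u, v` with `u v` of order `2m`: `w = (uv)^m` and `u w` is conjugate to `u` or `v` -/
theorem dihedral_even [Finite G] {u v : G} (hu : Inv u) (hv : Inv v) (h : ¬ Odd (orderOf (u * v))) :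
    ∃ w : G, Inv w ∧ Commute w u ∧ Commute w v ∧ ((∃ h, u * w = h * u * h⁻¹) ∨ ∃ h, u * w = h * v * h⁻¹) := by
  rw [Nat.not_odd_iff_even] at h
  obtain ⟨k, hk⟩ := h
  have hpos : 0 < orderOf (u * v) := orderOf_pos _
  have hxi : u * (u * v) * u⁻¹ = (u * v)⁻¹ := by
    rw [mul_inv_rev, hu.inv, hv.inv]
    calc u * (u * v) * u = (u * u) * v * u := by group
      _ = v * u := by rw [hu.2, one_mul]
  have hpow : ∀ n : ℕ, u * (u * v) ^ n * u⁻¹ = ((u * v) ^ n)⁻¹ := by
    intro n
    rw [← conj_pow, hxi, inv_pow]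
  have hw : Inv ((u * v) ^ k) := by
    constructor
    · intro h1
      have := orderOf_dvd_of_pow_eq_one h1
      have := Nat.le_of_dvd (by omega) this
      omega
    · rw [← pow_add, ← hk, pow_orderOf_eq_one]
  have h1 : Commute ((u * v) ^ k) u := by
    have h2 : u * (u * v) ^ k * u⁻¹ = (u * v) ^ k := by rw [hpow, hw.inv]
    exact (mul_inv_eq_iff_eq_mul.1 h2).symm
  have h3 : Commute ((u * v) ^ k) v := by
    have h5 : Commute ((u * v) ^ k) (u * v) := (Commute.refl (u * v)).pow_left k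
    have h6 := h1.inv_right.mul_right h5
    rwa [inv_mul_cancel_left] at h6
  refine ⟨(u * v) ^ k, hw, h1, h3, ?_⟩
  · have hmove : ∀ n : ℕ, u * (u * v) ^ n = ((u * v) ^ n)⁻¹ * u := fun n => mul_inv_eq_iff_eq_mul.1 (hpow n)
    rcases Nat.even_or_odd' k with ⟨n, hn | hn⟩
    · left
      refine ⟨((u * v) ^ n)⁻¹, ?_⟩
      rw [hn, two_mul, pow_add, ← mul_assoc, hmove, inv_inv]
    · right
      refine ⟨((u * v) ^ n)⁻¹, ?_⟩
      have h7 : 2 * n + 1 = n + (1 + n) := by ring
      rw [hn, h7, pow_add, pow_add, pow_one, inv_inv]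
      calc u * ((u * v) ^ n * (u * v * (u * v) ^ n)) = (u * (u * v) ^ n) * (u * v * (u * v) ^ n) := by group
        _ = ((u * v) ^ n)⁻¹ * u * (u * v * (u * v) ^ n) := by rw [hmove]
        _ = ((u * v) ^ n)⁻¹ * (u * u) * v * (u * v) ^ n := by simp only [mul_assoc]
        _ = _ := by rw [hu.2]; group

namespace Cfg

variable {x x' : G} (C : Cfg x x')
include C

/-- there is a member of the configuration whose square differs from a given element -/
theorem exists_ne [Finite G] (H : NC G) (w : G) : ∃ e, Four e ∧ Same (e * e) (x * x) ∧ e * e ≠ w := by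
  by_cases h : x * x = w
  · exact ⟨x', C.fx', (C.same H).symm, fun h' => C.ne (h.trans h'.symm)⟩
  · exact ⟨x, C.fx, Same.refl _, h⟩

variable [Finite G] (H : NC G)
include H

theorem exists_cfg {a : G} (ha : Four a) (ha' : Same (a * a) (x * x)) : ∃ e, Cfg a e ∧ Same (e * e) (x * x) := by
  obtain ⟨e, h1, h2, h3⟩ := C.exists_ne H (a * a)
  exact ⟨e, ⟨ha, h1, comm_of_same H ha h1 (ha'.trans h2.symm) h3.symm, h3.symm⟩, h2⟩

theorem J_comm {a b : G} (ha : Four a) (ha' : Same (a * a) (x * x)) (hb : Four b) (hb' : Same (b * b) (x * x)) :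
    Commute a b := by
  by_cases hne : a * a = b * b
  · obtain ⟨e, he, he'⟩ := C.exists_cfg H ha ha'
    have h1 : Commute e b := comm_of_same H he.fx' hb (he'.trans hb'.symm) (fun h => he.ne (hne.trans h.symm))
    have h2 : Commute (a * e) b := by
      apply comm_of_same H he.mul.fx hb
      · rw [he.sq_mul]
        exact ((he.same' H).trans ha').trans hb'.symm
      · rw [he.sq_mul, hne]
        intro h
        exact he.fx'.1 (mul_eq_left.1 h)
    have h3 : a = (a * e) * e⁻¹ := by group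
    rw [h3]
    exact h2.mul_left h1.inv_left
  · exact comm_of_same H ha hb (ha'.trans hb'.symm) hne

/-- I5 -/
theorem i5 {g : G} (hg : Commute (g * (x * x) * g⁻¹) (x * x)) : Same (g * (x * x) * g⁻¹) (x * x) := by
  by_cases hne : g * (x * x) * g⁻¹ = x * x
  · rw [hne]; exact Same.refl _
  set b := g * x * g⁻¹ with hb
  have hbf : Four b := C.fx.conj g
  have hbb : b * b = g * (x * x) * g⁻¹ := conj_sq g x
  have hz : Commute (x * x) (b * b) := by rw [hbb]; exact hg.symm
  have hz' : Commute (x' * x') (b * b) := ((C.same H).comm_iff.1 hz.symm).symm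
  have h1 := f1'' H hbf hz.eq
  have h2 := f1'' H hbf hz'.eq
  have hbz : Commute b (x * x) := by
    rcases h1 with h1 | h1
    · exact (show Commute (x * x) b from mul_inv_eq_iff_eq_mul.1 h1).symm
    rcases h2 with h2 | h2
    · exact (C.same H).comm_iff.2 (show Commute (x' * x') b from mul_inv_eq_iff_eq_mul.1 h2).symm
    · have h3 : (x * x * (x' * x')) * b * (x * x * (x' * x'))⁻¹ = b := by
        calc (x * x * (x' * x')) * b * (x * x * (x' * x'))⁻¹
            = (x * x) * ((x' * x') * b * (x' * x')⁻¹) * (x * x)⁻¹ := by group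
          _ = (x * x) * b⁻¹ * (x * x)⁻¹ := by rw [h2]
          _ = ((x * x) * b * (x * x)⁻¹)⁻¹ := conj_inv_eq _ _
          _ = b := by rw [h1, inv_inv]
      exact (C.same' H).comm_iff.1 (show Commute (x * x * (x' * x')) b from mul_inv_eq_iff_eq_mul.1 h3).symm
  have h3 := f1'' H C.fx hbz.eq
  -- `b * b` commutes with `x`
  have h4 : Commute x (b * b) := by
    have h5 : (b * b) * x * (b * b)⁻¹ = x := by
      calc (b * b) * x * (b * b)⁻¹ = b * (b * x * b⁻¹) * b⁻¹ := by group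
        _ = x := by
          rcases h3 with h3 | h3
          · rw [h3, h3]
          · rw [h3]
            calc b * x⁻¹ * b⁻¹ = (b * x * b⁻¹)⁻¹ := by group
              _ = x := by rw [h3, inv_inv]
    exact (show Commute (b * b) x from mul_inv_eq_iff_eq_mul.1 h5).symm
  have h6 : x * x ≠ b * b := by rw [hbb]; exact Ne.symm hne
  have h7 : Commute x b := comm_of_four C.fx hbf h6 (f1' H hbf h4.eq) (f1' H C.fx hbz.eq)
  have h8 : Cfg x b := ⟨C.fx, hbf, h7, h6⟩
  rw [← hbb]
  exact (h8.same H).symm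

/-- I6 -/
theorem i6 {a g : G} (ha : Four a) (ha' : Same (a * a) (x * x)) (hg : Commute (g * (a * a) * g⁻¹) (x * x)) :
    Same (g * (a * a) * g⁻¹) (x * x) := by
  obtain ⟨e, he, he'⟩ := C.exists_cfg H ha ha'
  exact (he.i5 H (ha'.comm_iff.2 hg)).trans ha'

/-- I7 -/
theorem i7 {g : G} (hg : ¬ Commute (g * (x * x) * g⁻¹) (x * x)) : Odd (orderOf ((x * x) * (g * (x * x) * g⁻¹))) := by
  by_contra hodd
  obtain ⟨w, hw, hwz, hwt, hc⟩ := dihedral_even C.fx.inv (C.fx.inv.conj g) hodd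
  -- `z w` is a conjugate of `z`
  obtain ⟨h, hh⟩ : ∃ h, x * x * w = h * (x * x) * h⁻¹ := by
    rcases hc with hc | ⟨h, hc⟩
    · exact hc
    · exact ⟨h * g, by rw [hc]; group⟩
  have h1 : Commute (h * (x * x) * h⁻¹) (x * x) := by
    rw [← hh]; exact (Commute.refl _).mul_left hwz
  have h2 := C.i5 H h1
  have h3 : x * x ≠ (h * x * h⁻¹) * (h * x * h⁻¹) := by
    rw [conj_sq, ← hh]
    intro h
    exact hw.1 (mul_eq_left.1 h.symm)
  have h2' : Same ((h * x * h⁻¹) * (h * x * h⁻¹)) (x * x) := by rw [conj_sq]; exact h2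
  have h4 : Cfg x (h * x * h⁻¹) := ⟨C.fx, C.fx.conj h, C.J_comm H C.fx (Same.refl _) (C.fx.conj h) h2', h3⟩
  have h5 := h4.same' H
  rw [conj_sq, ← hh, ← mul_assoc, C.fx.2, one_mul] at h5
  exact hg (h5.comm_iff.1 hwt.symm)

/-- I8 -/
theorem i8 {u g : G} (hu : Inv u) (huz : Commute u (x * x)) (hg : Commute g u) :
    Same (g * (x * x) * g⁻¹) (x * x) := by
  by_contra hcon
  have h0 : ¬ Commute (g * (x * x) * g⁻¹) (x * x) := fun h => hcon (C.i5 H h)
  have hodd := C.i7 H h0
  have hnz : ¬ Same u (x * x) := by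
    intro hs
    apply h0
    have : Commute g (x * x) := hs.comm_iff.1 hg
    rw [this.eq, mul_inv_cancel_right]
  set y := (x * x) * (g * (x * x) * g⁻¹) with hy
  have hut : Commute u (g * (x * x) * g⁻¹) := (hg.symm.mul_right huz).mul_right hg.symm.inv_right
  have huy : Commute u y := huz.mul_right hut
  have hy1 : y ≠ 1 := by
    intro h
    apply h0
    have : g * (x * x) * g⁻¹ = (x * x)⁻¹ := eq_inv_of_mul_eq_one_right h
    rw [this]
    exact (Commute.refl _).inv_left
  have hz := (f4 H hu C.fx.inv huz).resolve_left hnz y huy hodd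
  have hz' := (f4 H hu C.fx'.inv ((C.same H).comm_iff.1 huz)).resolve_left
    (fun h => hnz (h.trans (C.same H).symm)) y huy hodd
  have h3 : (x * x * (x' * x')) * y * (x * x * (x' * x'))⁻¹ = y := by
    calc (x * x * (x' * x')) * y * (x * x * (x' * x'))⁻¹
        = (x * x) * ((x' * x') * y * (x' * x')⁻¹) * (x * x)⁻¹ := by group
      _ = (x * x) * y⁻¹ * (x * x)⁻¹ := by rw [hz']
      _ = ((x * x) * y * (x * x)⁻¹)⁻¹ := conj_inv_eq _ _
      _ = y := by rw [hz, inv_inv]
  have h4 : Commute (x * x * (x' * x')) y := mul_inv_eq_iff_eq_mul.1 h3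
  have h5 := same_of_odd H C.zz_inv hu h4 huy hodd hy1
  exact hnz (h5.symm.trans (C.same' H))

theorem claim {w : G} (hw : Inv w) (hs : Same (w * (x * x) * w⁻¹) (x * x)) : Commute w (x * x) := by
  by_cases hne : w * (x * x) * w⁻¹ = x * x
  · exact mul_inv_eq_iff_eq_mul.1 hne
  have h1 : x * x ≠ (w * x * w⁻¹) * (w * x * w⁻¹) := by rw [conj_sq]; exact Ne.symm hne
  have hs' : Same ((w * x * w⁻¹) * (w * x * w⁻¹)) (x * x) := by rw [conj_sq]; exact hs
  have h4 : Cfg x (w * x * w⁻¹) := ⟨C.fx, C.fx.conj w, C.J_comm H C.fx (Same.refl _) (C.fx.conj w) hs', h1⟩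
  have h5 := h4.same' H
  apply h5.comm_iff.1
  have h6 := h4.zz
  rw [conj_sq] at h6 ⊢
  apply mul_inv_eq_iff_eq_mul.1
  calc w * (x * x * (w * (x * x) * w⁻¹)) * w⁻¹ = (w * (x * x) * w⁻¹) * ((w * w) * (x * x) * (w * w)⁻¹) := by group
    _ = (w * (x * x) * w⁻¹) * (x * x) := by rw [hw.2]; group
    _ = (x * x) * (w * (x * x) * w⁻¹) := h6.symm.eq

variable (hno : ¬ ∀ g : G, Commute (g * (x * x) * g⁻¹) (x * x))
include hno

theorem conj_a {u : G} (hu : Inv u) (huz : Commute u (x * x)) : ∃ h, h * (x * x) * h⁻¹ = u := by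
  push Not at hno
  obtain ⟨g0, hg0⟩ := hno
  by_cases hodd : Odd (orderOf (u * (g0 * (x * x) * g0⁻¹)))
  · obtain ⟨k, -, hk⟩ := exists_conj_of_odd hu (C.fx.inv.conj g0) hodd
    refine ⟨k⁻¹ * g0, ?_⟩
    calc k⁻¹ * g0 * (x * x) * (k⁻¹ * g0)⁻¹ = k⁻¹ * (g0 * (x * x) * g0⁻¹) * k := by group
      _ = k⁻¹ * (k * u * k⁻¹) * k := by rw [hk]
      _ = u := by group
  · exfalso
    obtain ⟨w, hw, hwu, hwt⟩ := exists_inv_of_even hu (C.fx.inv.conj g0) hodd
    have h1 := C.claim H hw (C.i8 H hu huz hwu)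
    have h2 := C.i8 H hw h1 (show Commute (g0 * (x * x) * g0⁻¹) w from hwt.symm)
    exact hg0 (C.claim H (C.fx.inv.conj g0) h2)

theorem conj_all {v : G} (hv : Inv v) : ∃ h, h * (x * x) * h⁻¹ = v := by
  by_cases hodd : Odd (orderOf (v * (x * x)))
  · obtain ⟨k, -, hk⟩ := exists_conj_of_odd hv C.fx.inv hodd
    refine ⟨k⁻¹, ?_⟩
    rw [← hk]; group
  · obtain ⟨w, hw, hwv, hwz⟩ := exists_inv_of_even hv C.fx.inv hodd
    obtain ⟨h, hh⟩ := C.conj_a H hno hw hwz
    have h1 : Commute (h⁻¹ * v * h⁻¹⁻¹) (x * x) := by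
      have h2 : x * x = h⁻¹ * w * h⁻¹⁻¹ := by rw [← hh]; group
      rw [h2]
      show h⁻¹ * v * h⁻¹⁻¹ * (h⁻¹ * w * h⁻¹⁻¹) = h⁻¹ * w * h⁻¹⁻¹ * (h⁻¹ * v * h⁻¹⁻¹)
      calc h⁻¹ * v * h⁻¹⁻¹ * (h⁻¹ * w * h⁻¹⁻¹) = h⁻¹ * (v * w) * h := by group
        _ = h⁻¹ * (w * v) * h := by rw [hwv]
        _ = _ := by group
    obtain ⟨k, hk⟩ := C.conj_a H hno (hv.conj h⁻¹) h1
    refine ⟨h * k, ?_⟩
    calc h * k * (x * x) * (h * k)⁻¹ = h * (k * (x * x) * k⁻¹) * h⁻¹ := by group
      _ = v := by rw [hk]; group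

theorem abelian : ∀ a b : G, a * (x * x) = (x * x) * a → b * (x * x) = (x * x) * b → a * b = b * a := by
  have hsame : ∀ u : G, Inv u → Commute u (x * x) → Same u (x * x) := by
    intro u hu huz
    obtain ⟨h, rfl⟩ := C.conj_a H hno hu huz
    exact C.i5 H huz
  have key := comm_or_q8 (G := G) (Subgroup.centralizer ({x * x} : Set G)) (by
    intro c hc y hy
    have hc' : Commute c (x * x) := Subgroup.mem_centralizer_singleton_iff.1 hc
    have hy' : Commute y (x * x) := Subgroup.mem_centralizer_singleton_iff.1 hy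
    by_cases hodd : Odd (orderOf y)
    · exact f2a H C.fx.inv hy'.symm.eq hodd hc'.eq
    · obtain ⟨n, hn⟩ := exists_inv_pow (Nat.not_odd_iff_even.1 hodd)
      have h1 : Same (y ^ n) (x * x) := hsame _ hn (hy'.pow_left n)
      exact f1 H hn (Subgroup.pow_mem _ (Subgroup.mem_zpowers y) n) (h1.comm_iff.2 hc').eq)
  rcases key with key | ⟨a, ha, b, hb, hfa, hfb, hab, hinv⟩
  · intro a b ha hb
    exact key a (Subgroup.mem_centralizer_singleton_iff.2 ha) b (Subgroup.mem_centralizer_singleton_iff.2 hb)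
  · exfalso
    have ha' : Commute a (x * x) := Subgroup.mem_centralizer_singleton_iff.1 ha
    have hb' : Commute b (x * x) := Subgroup.mem_centralizer_singleton_iff.1 hb
    have h1 := C.J_comm H hfa (hsame _ hfa.inv (ha'.mul_left ha')) hfb (hsame _ hfb.inv (hb'.mul_left hb'))
    rw [h1.eq, mul_inv_cancel_right] at hinv
    apply hfb.1
    nth_rewrite 1 [hinv]
    exact inv_mul_cancel b

end Cfg

theorem no_cfg [Finite G] (H : NC G) (hns : NS G) {x x' : G} (C : Cfg x x') : False := by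
  have hno : ¬ ∀ g : G, Commute (g * (x * x) * g⁻¹) (x * x) := by
    intro h
    have h1 : ∀ a ∈ Subgroup.normalClosure ({x * x} : Set G), ∀ b ∈ Subgroup.normalClosure ({x * x} : Set G), a * b = b * a := by
      have h2 : Subgroup.normalClosure ({x * x} : Set G) = Subgroup.closure (Set.range fun g : G => g * (x * x) * g⁻¹) := by
        rw [Subgroup.normalClosure]
        congr 1
        ext y
        rw [Group.mem_conjugatesOfSet_iff]
        constructor
        · rintro ⟨a, ha, hc⟩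
          rw [Set.mem_singleton_iff] at ha
          subst ha
          obtain ⟨g, hg⟩ := isConj_iff.1 hc
          exact ⟨g, hg⟩
        · rintro ⟨g, rfl⟩
          exact ⟨x * x, rfl, isConj_iff.2 ⟨g, rfl⟩⟩
      rw [h2]
      have h3 : ∀ a ∈ (Set.range fun g : G => g * (x * x) * g⁻¹), ∀ b ∈ (Set.range fun g : G => g * (x * x) * g⁻¹), a * b = b * a := by
        rintro _ ⟨g, rfl⟩ _ ⟨k, rfl⟩
        have h4 := h (k⁻¹ * g)
        calc g * (x * x) * g⁻¹ * (k * (x * x) * k⁻¹) = k * ((k⁻¹ * g * (x * x) * (k⁻¹ * g)⁻¹) * (x * x)) * k⁻¹ := by group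
          _ = k * ((x * x) * (k⁻¹ * g * (x * x) * (k⁻¹ * g)⁻¹)) * k⁻¹ := by rw [h4.eq]
          _ = _ := by group
      letI := Subgroup.closureCommGroupOfComm h3
      intro a ha b hb
      exact congrArg Subtype.val (mul_comm (⟨a, ha⟩ : Subgroup.closure (Set.range fun g : G => g * (x * x) * g⁻¹)) ⟨b, hb⟩)
    have h5 := hns (Subgroup.normalClosure ({x * x} : Set G)) inferInstance
      (Group.isSolvable_of_comm fun a b => Subtype.ext (h1 a a.2 b b.2))
    have h6 : x * x ∈ Subgroup.normalClosure ({x * x} : Set G) := Subgroup.subset_normalClosure rfl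
    rw [h5, Subgroup.mem_bot] at h6
    exact C.fx.1 h6
  have hab : AbCent G := by
    intro t ht a b ha hb
    obtain ⟨h, rfl⟩ := C.conj_all H hno ht
    have key : ∀ c : G, c * (h * (x * x) * h⁻¹) = h * (x * x) * h⁻¹ * c → (h⁻¹ * c * h) * (x * x) = (x * x) * (h⁻¹ * c * h) := by
      intro c hc
      calc (h⁻¹ * c * h) * (x * x) = h⁻¹ * (c * (h * (x * x) * h⁻¹)) * h := by group
        _ = h⁻¹ * (h * (x * x) * h⁻¹ * c) * h := by rw [hc]
        _ = _ := by group
    have h1 := C.abelian H hno _ _ (key a ha) (key b hb)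
    calc a * b = h * ((h⁻¹ * a * h) * (h⁻¹ * b * h)) * h⁻¹ := by group
      _ = h * ((h⁻¹ * b * h) * (h⁻¹ * a * h)) * h⁻¹ := by rw [h1]
      _ = b * a := by group
  obtain ⟨F, i1, i2, hF, ⟨e⟩⟩ := sl_of_abCent hab hns C.fx.inv C.fx'.inv C.zz C.ne
  haveI := hF
  have h1 : (e x) * (e x) = 1 := by
    apply AbC.sl2_sq (e (x * x)) (e x)
    · intro h
      exact C.fx.1 (e.injective (by rw [h, map_one]))
    · rw [← map_mul, C.fx.2, map_one]
    · rw [← map_mul, ← map_mul, mul_assoc]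
  rw [← map_mul] at h1
  exact C.fx.1 (e.injective (by rw [h1, map_one]))

end Cfsg.Agent.NCy
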