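import Cfsg.Agent.NCy.AbUse
import Cfsg.Agent.NCy.Four2
import Cfsg.Agent.BSW.Main
import Cfsg.Agent.Transfer.Residual

set_option autoImplicit false
set_option linter.unusedSectionVars false

/-! # The case without elements of order four (helper2) -/

namespace Cfsg.Agent.NCy

open Cfsg.Agent.AbC

universe u

variable {G : Type u} [Group G]

theorem eq_one_of_odd_sq {y : G} (hy : Odd (orderOf y)) (h : y * y = 1) : y = 1 := by
  have h1 : orderOf y ∣ 2 := orderOf_dvd_of_pow_eq_one (by rw [sq]; exact h)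
  rw [← orderOf_eq_one_iff]
  rcases (Nat.dvd_prime Nat.prime_two).1 h1 with h2 | h2
  · exact h2
  · rw [h2] at hy; exact absurd hy (by decide)

theorem eq_one_of_odd_inv {y : G} (hy : Odd (orderOf y)) (h : y = y⁻¹) : y = 1 :=
  eq_one_of_odd_sq hy (by nth_rewrite 1 [h]; exact inv_mul_cancel y)

variable [Finite G]

theorem not_all_comm (hns : NS G) {z : G} (hz : Inv z) : ¬ ∀ g : G, Commute (g * z * g⁻¹) z := by
  intro h
  have h1 : ∀ a ∈ Subgroup.normalClosure ({z} : Set G), ∀ b ∈ Subgroup.normalClosure ({z} : Set G), a * b = b * a := by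
    have h2 : Subgroup.normalClosure ({z} : Set G) = Subgroup.closure (Set.range fun g : G => g * z * g⁻¹) := by
      rw [Subgroup.normalClosure]
      congr 1
      ext y
      rw [Group.mem_conjugatesOfSet_iff]
      constructor
      · rintro ⟨a, ha, hc⟩
        rw [Set.mem_singleton_iff] at ha
        subst ha
        obtain ⟨g, hg⟩ := isConj_iff.1 hc
        exact ⟨g, hg⟩
      · rintro ⟨g, rfl⟩
        exact ⟨z, rfl, isConj_iff.2 ⟨g, rfl⟩⟩
    rw [h2]
    have h3 : ∀ a ∈ (Set.range fun g : G => g * z * g⁻¹), ∀ b ∈ (Set.range fun g : G => g * z * g⁻¹), a * b = b * a := by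
      rintro _ ⟨g, rfl⟩ _ ⟨k, rfl⟩
      have h4 := h (k⁻¹ * g)
      calc g * z * g⁻¹ * (k * z * k⁻¹) = k * ((k⁻¹ * g * z * (k⁻¹ * g)⁻¹) * z) * k⁻¹ := by group
        _ = k * (z * (k⁻¹ * g * z * (k⁻¹ * g)⁻¹)) * k⁻¹ := by rw [h4.eq]
        _ = _ := by group
    letI := Subgroup.closureCommGroupOfComm h3
    intro a ha b hb
    exact congrArg Subtype.val (mul_comm (⟨a, ha⟩ : Subgroup.closure (Set.range fun g : G => g * z * g⁻¹)) ⟨b, hb⟩)
  have h5 := hns (Subgroup.normalClosure ({z} : Set G)) inferInstance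
    (Group.isSolvable_of_comm fun a b => Subtype.ext (h1 a a.2 b b.2))
  have h6 : z ∈ Subgroup.normalClosure ({z} : Set G) := Subgroup.subset_normalClosure rfl
  rw [h5, Subgroup.mem_bot] at h6
  exact hz.1 h6

/-- every element is a product of powers, one of order at most two, one of odd order -/
theorem decomp' (a : G) (h4 : ∀ n : ℕ, ¬ Four (a ^ n)) : ∃ i j : ℕ, a = a ^ i * a ^ j ∧ a ^ i * a ^ i = 1 ∧ Odd (orderOf (a ^ j)) := by
  haveI : Fact (Nat.Prime 2) := ⟨Nat.prime_two⟩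
  obtain ⟨i, j, h, ⟨k, hk⟩, hj⟩ := Transfer.exists_pow_decomp 2 a (orderOf_pos a).ne'
  refine ⟨i, j, h, ?_, Nat.coprime_two_right.1 hj⟩
  by_contra hne
  have hk2 : 2 ≤ k := by
    by_contra hk2
    have : k ≤ 1 := by omega
    apply hne
    rw [← sq]
    apply orderOf_dvd_iff_pow_eq_one.1
    rw [hk]
    calc 2 ^ k ∣ 2 ^ 1 := pow_dvd_pow 2 this
      _ = 2 := pow_one 2
  obtain ⟨m, rfl⟩ : ∃ m, k = m + 2 := ⟨k - 2, by omega⟩
  apply h4 (i * 2 ^ m)
  rw [pow_mul]
  constructor
  · intro h1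
    rw [← pow_add, ← two_mul, ← pow_succ'] at h1
    have h2 := orderOf_dvd_of_pow_eq_one h1
    rw [hk] at h2
    have := (Nat.pow_dvd_pow_iff_le_right (by norm_num : 1 < 2)).1 h2
    omega
  · rw [← pow_add, ← pow_add]
    have h5 : 2 ^ m + 2 ^ m + (2 ^ m + 2 ^ m) = 2 ^ (m + 2) := by ring
    rw [h5, ← hk, pow_orderOf_eq_one]

theorem decomp (h4 : ∀ x : G, ¬ Four x) (a : G) : ∃ i j : ℕ, a = a ^ i * a ^ j ∧ a ^ i * a ^ i = 1 ∧ Odd (orderOf (a ^ j)) :=
  decomp' a fun _ => h4 _

theorem inv_or_one {x : G} (h : x * x = 1) : x = 1 ∨ Inv x := by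
  by_cases h1 : x = 1
  · exact Or.inl h1
  · exact Or.inr ⟨h1, h⟩

/-- case A1 -/
theorem abCent_of (H : NC G) (h4 : ∀ x : G, ¬ Four x)
    (hc : ∀ z s : G, Inv z → Inv s → Commute z s → ∀ y, Commute z y → Odd (orderOf y) → Commute s y) : AbCent G := by
  intro t ht a b ha hb
  obtain ⟨i, j, hae, hai, haj⟩ := decomp h4 a
  obtain ⟨i', j', hbe, hbi, hbj⟩ := decomp h4 b
  have hta : Commute t a := (show Commute a t from ha).symm
  have htb : Commute t b := (show Commute b t from hb).symm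
  have h1 : Commute (a ^ j) (b ^ j') := f3 H ht (hta.pow_right j).eq haj (htb.pow_right j').eq hbj
  have h2 : Commute (a ^ i) (b ^ j') := by
    rcases inv_or_one hai with h | h
    · rw [h]; exact Commute.one_left _
    · exact hc t _ ht h (hta.pow_right i) _ (htb.pow_right j') hbj
  have h3 : Commute (a ^ j) (b ^ i') := by
    rcases inv_or_one hbi with h | h
    · rw [h]; exact Commute.one_right _
    · exact (hc t _ ht h (htb.pow_right i') _ (hta.pow_right j) haj).symm
  have h5 : Commute (a ^ i) (b ^ i') := by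
    rcases inv_or_one hai with h | h
    · rw [h]; exact Commute.one_left _
    rcases inv_or_one hbi with h' | h'
    · rw [h']; exact Commute.one_right _
    obtain ⟨k, l, hke, hki, hkl⟩ := decomp h4 (a ^ i * b ^ i')
    set c := a ^ i * b ^ i' with hcdef
    have htc : Commute t c := (hta.pow_right i).mul_right (htb.pow_right i')
    have h6 : Commute (a ^ i) (c ^ l) := hc t _ ht h (hta.pow_right i) _ (htc.pow_right l) hkl
    have h7 : a ^ i * c * (a ^ i)⁻¹ = c⁻¹ := by
      rw [hcdef, mul_inv_rev, h.inv, h'.inv]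
      calc a ^ i * (a ^ i * b ^ i') * a ^ i = (a ^ i * a ^ i) * b ^ i' * a ^ i := by simp only [mul_assoc]
        _ = b ^ i' * a ^ i := by rw [hai, one_mul]
    have h8 : c ^ l = (c ^ l)⁻¹ := by
      have h9 : a ^ i * c ^ l * (a ^ i)⁻¹ = (c ^ l)⁻¹ := by rw [← conj_pow, h7, inv_pow]
      rw [h6.eq, mul_inv_cancel_right] at h9
      exact h9
    have h10 := eq_one_of_odd_inv hkl h8
    rw [h10, mul_one] at hke
    have h11 : c * c = 1 := by rw [hke]; exact hki
    have h12 : c⁻¹ = c := inv_eq_of_mul_eq_one_left h11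
    show a ^ i * b ^ i' = b ^ i' * a ^ i
    rw [← hcdef, ← h12, hcdef, mul_inv_rev, h.inv, h'.inv]
  rw [hae, hbe]
  exact ((h5.mul_right h2).mul_left (h3.mul_right h1)).eq

end Cfsg.Agent.NCy
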