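import Cfsg.Agent.NCy.Elem

set_option autoImplicit false
set_option linter.unusedSectionVars false

/-! # The case without elements of order four, II (helper2) -/

namespace Cfsg.Agent.NCy

open Cfsg.Agent.AbC

universe u

variable {G : Type u} [Group G] [Finite G]

/-- `C(w)` has no nontrivial elements of odd order -/
theorem no_odd (H : NC G) {z a w : G} (hz : Inv z) (ha : Inv a) (hza : Same z a) (hne : z ≠ a) (hzza : Same z (a * z))
    (hw : Inv w) (hwz : Commute w z) (hnz : ¬ Same z w) : ∀ y, Commute w y → Odd (orderOf y) → y = 1 := by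
  intro y hwy hy
  by_contra hy1
  have hca : Commute z a := hza.comm
  have hwa : Commute w a := hza.comm_iff.1 hwz
  have h1 := (f4 H hw hz hwz.eq).resolve_left (fun h => hnz h.symm) y hwy.eq hy
  have h2 := (f4 H hw ha hwa.eq).resolve_left (fun h => hnz (hza.trans h.symm)) y hwy.eq hy
  have h3 : Commute (a * z) y := by
    apply mul_inv_eq_iff_eq_mul.1
    calc a * z * y * (a * z)⁻¹ = a * (z * y * z⁻¹) * a⁻¹ := by group
      _ = a * y⁻¹ * a⁻¹ := by rw [h1]
      _ = (a * y * a⁻¹)⁻¹ := conj_inv_eq _ _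
      _ = y := by rw [h2, inv_inv]
  have haz : Inv (a * z) := by
    refine ⟨fun h => hne ?_, ?_⟩
    · have := mul_eq_one_iff_eq_inv.1 h
      rw [hz.inv] at this
      exact this.symm
    · calc a * z * (a * z) = a * (z * a) * z := by group
        _ = (a * a) * (z * z) := by rw [hca.eq]; group
        _ = 1 := by rw [ha.2, hz.2, mul_one]
  exact hnz (hzza.trans (same_of_odd H haz hw h3.eq hwy.eq hy hy1))

theorem elem_of_no_odd (h4 : ∀ x : G, ¬ Four x) {w : G} (h : ∀ y, Commute w y → Odd (orderOf y) → y = 1) {c d : G}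
    (hc : Commute w c) (hd : Commute w d) : Commute c d := by
  have key : ∀ c, Commute w c → c * c = 1 := by
    intro c hc
    obtain ⟨i, j, hce, hci, hcj⟩ := decomp h4 c
    have h1 := h _ (hc.pow_right j) hcj
    rw [h1, mul_one] at hce
    rw [hce]; exact hci
  have h1 := key c hc
  have h2 := key d hd
  have h3 := key (c * d) (hc.mul_right hd)
  have h4 : (c * d)⁻¹ = c * d := inv_eq_of_mul_eq_one_left h3
  rw [mul_inv_rev, inv_eq_of_mul_eq_one_left h1, inv_eq_of_mul_eq_one_left h2] at h4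
  exact h4.symm

theorem caseA2a (H : NC G) (hns : NS G) (h4 : ∀ x : G, ¬ Four x) {z s y : G} (hz : Inv z) (hs : Inv s) (hzs : Commute z s)
    (hzy : Commute z y) (hy : Odd (orderOf y)) (hsy : ¬ Commute s y) {a : G} (ha : Inv a) (haz : Commute a z) (has : Commute a s)
    (h1 : a ≠ z) (h2 : a ≠ s) (h3 : a ≠ s * z) : False := by
  have hy1 : y ≠ 1 := by rintro rfl; exact hsy (Commute.one_right s)
  have hnz : ¬ Same z s := fun h => hsy (h.comm_iff.1 hzy.symm).symm
  -- we may assume that `a` commutes with `y`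
  obtain ⟨b, hb, hbz, hbs, hb1, hby, hb2⟩ : ∃ b, Inv b ∧ Commute b z ∧ Commute b s ∧ b ≠ z ∧ Commute b y ∧ b ≠ 1 := by
    by_cases hay : Commute a y
    · exact ⟨a, ha, haz, has, h1, hay, ha.1⟩
    · have hinv := (f4 H hz ha haz.symm.eq).resolve_left (fun h => hay (h.comm_iff.1 hzy.symm).symm) y hzy.eq hy
      have hinv' := (f4 H hz hs hzs.eq).resolve_left hnz y hzy.eq hy
      have hb : Inv (a * s) := by
        refine ⟨fun h => h2 ?_, ?_⟩
        · have := mul_eq_one_iff_eq_inv.1 h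
          rwa [hs.inv] at this
        · calc a * s * (a * s) = a * (s * a) * s := by group
            _ = (a * a) * (s * s) := by rw [has.symm.eq]; group
            _ = 1 := by rw [ha.2, hs.2, mul_one]
      refine ⟨a * s, hb, haz.mul_left hzs.symm, has.mul_left (Commute.refl s), ?_, ?_, hb.1⟩
      · intro h
        apply h3
        calc a = a * s * s := by rw [mul_assoc, hs.2, mul_one]
          _ = z * s := by rw [h]
          _ = s * z := hzs.eq
      · apply mul_inv_eq_iff_eq_mul.1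
        calc a * s * y * (a * s)⁻¹ = a * (s * y * s⁻¹) * a⁻¹ := by group
          _ = a * y⁻¹ * a⁻¹ := by rw [hinv']
          _ = (a * y * a⁻¹)⁻¹ := conj_inv_eq _ _
          _ = y := by rw [hinv, inv_inv]
  have hzb : Same z b := same_of_odd H hz hb hzy.eq hby.eq hy hy1
  have hbz' : Inv (b * z) := by
    refine ⟨fun h => hb1 ?_, ?_⟩
    · have := mul_eq_one_iff_eq_inv.1 h
      rwa [hz.inv] at this
    · calc b * z * (b * z) = b * (z * b) * z := by group
        _ = (b * b) * (z * z) := by rw [hbz.symm.eq]; group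
        _ = 1 := by rw [hb.2, hz.2, mul_one]
  have hzbz : Same z (b * z) := same_of_odd H hz hbz' hzy.eq (hby.mul_left hzy).eq hy hy1
  have hno : ∀ {w : G}, Inv w → Commute w z → ¬ Same z w → ∀ y, Commute w y → Odd (orderOf y) → y = 1 :=
    fun hw hwz hnz => no_odd H hz hb hzb hb1.symm hzbz hw hwz hnz
  have hs0 := hno hs hzs.symm hnz
  apply not_all_comm hns hz
  intro g
  have hodd : ¬ Odd (orderOf (s * (g * z * g⁻¹))) := by
    intro hodd
    obtain ⟨k, -, hk⟩ := exists_conj_of_odd hs (hz.conj g) hodd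
    -- `s = k⁻¹ g z (k⁻¹ g)⁻¹`
    have hse : s = (k⁻¹ * g) * z * (k⁻¹ * g)⁻¹ := by
      have : s = k⁻¹ * (g * z * g⁻¹) * k := by rw [← hk]; group
      rw [this]; group
    have h5 := hs0 ((k⁻¹ * g) * y * (k⁻¹ * g)⁻¹) (by
      rw [hse]
      show (k⁻¹ * g) * z * (k⁻¹ * g)⁻¹ * ((k⁻¹ * g) * y * (k⁻¹ * g)⁻¹) = (k⁻¹ * g) * y * (k⁻¹ * g)⁻¹ * ((k⁻¹ * g) * z * (k⁻¹ * g)⁻¹)
      calc (k⁻¹ * g) * z * (k⁻¹ * g)⁻¹ * ((k⁻¹ * g) * y * (k⁻¹ * g)⁻¹) = (k⁻¹ * g) * (z * y) * (k⁻¹ * g)⁻¹ := by group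
        _ = (k⁻¹ * g) * (y * z) * (k⁻¹ * g)⁻¹ := by rw [hzy.eq]
        _ = _ := by group) (by rw [orderOf_conj_eq]; exact hy)
    exact hy1 (conj_eq_one_iff.1 h5)
  obtain ⟨w, hw, hws, hwt⟩ := exists_inv_of_even hs (hz.conj g) hodd
  have hwz : Commute w z := elem_of_no_odd h4 hs0 (show Commute w s from hws).symm hzs.symm
  by_cases hzw : Same z w
  · exact hzw.comm_iff.2 (show Commute w (g * z * g⁻¹) from hwt).symm
  · exact elem_of_no_odd h4 (hno hw hwz hzw) hwt hwz

theorem pigeon {α : Type*} {a b c p q p' q' : α} (hp : p = a ∨ p = b ∨ p = c) (hq : q = a ∨ q = b ∨ q = c)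
    (hp' : p' = a ∨ p' = b ∨ p' = c) (hq' : q' = a ∨ q' = b ∨ q' = c) (h1 : p ≠ q) (h2 : p' ≠ q') :
    p = p' ∨ p = q' ∨ q = p' ∨ q = q' := by
  classical
  by_contra hcon
  push Not at hcon
  obtain ⟨n1, n2, n3, n4⟩ := hcon
  have h3 : ({p, q, p', q'} : Finset α) ⊆ {a, b, c} := by
    intro x hx
    simp only [Finset.mem_insert, Finset.mem_singleton] at hx ⊢
    rcases hx with rfl | rfl | rfl | rfl <;> assumption
  have h4 := Finset.card_le_card h3
  have h5 : ({p, q, p', q'} : Finset α).card = 4 := by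
    rw [Finset.card_insert_of_notMem, Finset.card_insert_of_notMem, Finset.card_insert_of_notMem, Finset.card_singleton]
    · simpa using h2
    · simp only [Finset.mem_insert, Finset.mem_singleton, not_or]; exact ⟨n3, n4⟩
    · simp only [Finset.mem_insert, Finset.mem_singleton, not_or]; exact ⟨h1, n1, n2⟩
  have h6 : ({a, b, c} : Finset α).card ≤ 3 := Finset.card_le_three
  omega

set_option maxHeartbeats 1000000 in
/-- case A2b -/
theorem caseA2b (H : NC G) (h4 : ∀ x : G, ¬ Four x) (hZ : ∀ u : G, Inv u → ∃ g, Commute (g * u * g⁻¹) u ∧ g * u * g⁻¹ ≠ u)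
    {z s y : G} (hz : Inv z) (hs : Inv s) (hzs : Commute z s)
    (hzy : Commute z y) (hy : Odd (orderOf y)) (hsy : ¬ Commute s y)
    (hall : ∀ a : G, Inv a → Commute a z → Commute a s → a = z ∨ a = s ∨ a = s * z) :
    ∃ (F : Type) (_ : Field F) (_ : Fintype F), Odd (Fintype.card F) ∧
      Nonempty (G ≃* Matrix.ProjectiveSpecialLinearGroup (Fin 2) F) := by
  haveI : Fact (Nat.Prime 2) := ⟨Nat.prime_two⟩
  have hy1 : y ≠ 1 := by rintro rfl; exact hsy (Commute.one_right s)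
  have hnz : ¬ Same z s := fun h => hsy (h.comm_iff.1 hzy.symm).symm
  have hsinv := (f4 H hz hs hzs.eq).resolve_left hnz
  have hszI : Inv (s * z) := by
    refine ⟨fun h => hnz ?_, ?_⟩
    · have := mul_eq_one_iff_eq_inv.1 h
      rw [hz.inv] at this
      rw [this]; exact Same.refl _
    · calc s * z * (s * z) = s * (z * s) * z := by group
        _ = (s * s) * (z * z) := by rw [hzs.eq]; group
        _ = 1 := by rw [hs.2, hz.2, mul_one]
  have hszne : s ≠ z := fun h => hnz (by rw [h]; exact Same.refl _)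
  -- the Sylow subgroup
  obtain ⟨S, hzS, hsS⟩ : ∃ S : Sylow 2 G, z ∈ (S : Subgroup G) ∧ s ∈ (S : Subgroup G) := by
    have h2 : ∀ {u : G}, Inv u → IsPGroup 2 (Subgroup.zpowers u) := by
      intro u hu
      rw [IsPGroup.iff_card]
      exact ⟨1, by rw [Nat.card_zpowers, hu.orderOf, pow_one]⟩
    have hle : Subgroup.zpowers z ≤ Subgroup.normalizer (Subgroup.zpowers s : Set G) := by
      rw [Subgroup.zpowers_le]
      exact (normalizer_inv H hs).2 hzs
    have hp : IsPGroup 2 (Subgroup.zpowers z ⊔ Subgroup.zpowers s : Subgroup G) :=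
      (h2 hz).to_sup_of_normal_right' (h2 hs) hle
    obtain ⟨P, hP⟩ := hp.exists_le_sylow
    exact ⟨P, hP (Subgroup.mem_sup_left (Subgroup.mem_zpowers z)), hP (Subgroup.mem_sup_right (Subgroup.mem_zpowers s))⟩
  have hsq : ∀ {P : Subgroup G}, IsPGroup 2 P → ∀ c ∈ P, c * c = 1 := by
    intro P hP c hc
    obtain ⟨i, j, hce, hci, hcj⟩ := decomp h4 c
    have h1 : c ^ j = 1 := by
      obtain ⟨n, hn⟩ := IsPGroup.iff_orderOf.1 hP ⟨c ^ j, P.pow_mem hc j⟩
      rw [Subgroup.orderOf_mk] at hn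
      rw [hn] at hcj
      have : n = 0 := by
        by_contra h0
        exact absurd hcj (Nat.not_odd_iff_even.2 (Nat.even_pow.2 ⟨even_two, h0⟩))
      rw [this, pow_zero] at hn
      exact orderOf_eq_one_iff.1 hn
    rw [h1, mul_one] at hce
    rw [hce]; exact hci
  have hcm : ∀ {P : Subgroup G}, IsPGroup 2 P → ∀ c ∈ P, ∀ d ∈ P, Commute c d := by
    intro P hP c hc d hd
    have h1 := hsq hP c hc
    have h2 := hsq hP d hd
    have h3 := hsq hP _ (P.mul_mem hc hd)
    have h5 : (c * d)⁻¹ = c * d := inv_eq_of_mul_eq_one_left h3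
    rw [mul_inv_rev, inv_eq_of_mul_eq_one_left h1, inv_eq_of_mul_eq_one_left h2] at h5
    exact h5.symm
  have hS : ∀ c ∈ (S : Subgroup G), c ≠ 1 → c = z ∨ c = s ∨ c = s * z := by
    intro c hc hc1
    exact hall c ⟨hc1, hsq S.isPGroup' c hc⟩ (hcm S.isPGroup' c hc z hzS) (hcm S.isPGroup' c hc s hsS)
  -- every involution is conjugate to two distinct members of `S`
  have htwo : ∀ u : G, Inv u → ∃ p ∈ (S : Subgroup G), ∃ q ∈ (S : Subgroup G), p ≠ q ∧ p ≠ 1 ∧ q ≠ 1 ∧
      (∃ g, g * u * g⁻¹ = p) ∧ (∃ g, g * u * g⁻¹ = q) := by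
    intro u hu
    obtain ⟨g, hg, hg'⟩ := hZ u hu
    have h2 : ∀ {u : G}, Inv u → IsPGroup 2 (Subgroup.zpowers u) := by
      intro u hu
      rw [IsPGroup.iff_card]
      exact ⟨1, by rw [Nat.card_zpowers, hu.orderOf, pow_one]⟩
    have hle : Subgroup.zpowers u ≤ Subgroup.normalizer (Subgroup.zpowers (g * u * g⁻¹) : Set G) := by
      rw [Subgroup.zpowers_le]
      exact (normalizer_inv H (hu.conj g)).2 hg.symm.eq
    have hp : IsPGroup 2 (Subgroup.zpowers u ⊔ Subgroup.zpowers (g * u * g⁻¹) : Subgroup G) :=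
      (h2 hu).to_sup_of_normal_right' (h2 (hu.conj g)) hle
    obtain ⟨P, hP⟩ := hp.exists_le_sylow
    obtain ⟨k, hk⟩ := MulAction.exists_smul_eq G P S
    have hmem : ∀ c ∈ (P : Subgroup G), k * c * k⁻¹ ∈ (S : Subgroup G) := by
      intro c hc
      have : k * c * k⁻¹ ∈ ((k • P : Sylow 2 G) : Subgroup G) := by
        rw [Sylow.coe_subgroup_smul]
        exact Subgroup.smul_mem_pointwise_smul c (MulAut.conj k) _ hc
      rwa [hk] at this
    have hu1 := hmem u (hP (Subgroup.mem_sup_left (Subgroup.mem_zpowers u)))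
    have hu2 := hmem (g * u * g⁻¹) (hP (Subgroup.mem_sup_right (Subgroup.mem_zpowers _)))
    refine ⟨_, hu1, _, hu2, ?_, ?_, ?_, ⟨k, rfl⟩, ⟨k * g, by group⟩⟩
    · intro h
      exact hg' (mul_left_cancel (mul_right_cancel h)).symm
    · intro h; exact hu.1 (conj_eq_one_iff.1 h)
    · intro h; exact (hu.conj g).1 (conj_eq_one_iff.1 h)
  have hconj : ∀ v : G, Inv v → ∃ g, g * v * g⁻¹ = z := by
    intro v hv
    obtain ⟨p, hp, q, hq, hpq, hp1, hq1, ⟨g1, hg1⟩, ⟨g2, hg2⟩⟩ := htwo z hz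
    obtain ⟨p', hp', q', hq', hpq', hp1', hq1', ⟨g1', hg1'⟩, ⟨g2', hg2'⟩⟩ := htwo v hv
    -- pigeonhole
    have key : ∀ {r : G}, (∃ g, g * z * g⁻¹ = r) → (∃ g, g * v * g⁻¹ = r) → ∃ g, g * v * g⁻¹ = z := by
      rintro r ⟨g, rfl⟩ ⟨k, hk⟩
      refine ⟨g⁻¹ * k, ?_⟩
      calc g⁻¹ * k * v * (g⁻¹ * k)⁻¹ = g⁻¹ * (k * v * k⁻¹) * g := by group
        _ = z := by rw [hk]; group
    rcases pigeon (hS p hp hp1) (hS q hq hq1) (hS p' hp' hp1') (hS q' hq' hq1') hpq hpq' with e1 | e1 | e1 | e1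
    · exact key ⟨g1, hg1⟩ ⟨g1', by rw [hg1', e1]⟩
    · exact key ⟨g1, hg1⟩ ⟨g2', by rw [hg2', e1]⟩
    · exact key ⟨g2, hg2⟩ ⟨g1', by rw [hg1', e1]⟩
    · exact key ⟨g2, hg2⟩ ⟨g2', by rw [hg2', e1]⟩
  -- the configuration
  set K := Subgroup.centralizer ({y} : Set G) with hK
  have hKm : ∀ k : G, k ∈ K ↔ Commute k y := fun k => Subgroup.mem_centralizer_singleton_iff
  have hKz : ∀ k : G, k ∈ K → Commute k z := fun k hk => f2b H hz hzy.eq hy hy1 ((hKm k).1 hk).eq
  have hKinv : ∀ k ∈ K, Inv k → k = z := by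
    intro k hk hki
    have h1 : Same z k := same_of_odd H hz hki hzy.eq ((hKm k).1 hk).eq hy hy1
    have h2 : Commute k s := (h1.comm_iff.1 hzs.symm).symm
    rcases hall k hki (hKz k hk) h2 with h | h | h
    · exact h
    · exact absurd ((hKm k).1 hk) (by rw [h]; exact hsy)
    · exfalso
      apply hsy
      have h3 : Commute (s * z) y := by rw [← h]; exact (hKm k).1 hk
      have h5 : s = (s * z) * z := by rw [mul_assoc, hz.2, mul_one]
      rw [h5]
      exact h3.mul_left hzy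
  have hKdec : ∀ k ∈ K, ∃ j : ℕ, (k = k ^ j ∨ k = z * k ^ j) ∧ Odd (orderOf (k ^ j)) := by
    intro k hk
    obtain ⟨i, j, hke, hki, hkj⟩ := decomp h4 k
    refine ⟨j, ?_, hkj⟩
    rcases inv_or_one hki with h | h
    · left
      rw [h, one_mul] at hke
      exact hke
    · right
      rw [hKinv _ (K.pow_mem hk i) h] at hke
      exact hke
  have hct : ∀ x : G, x * z = z * x → x ∈ K ∨ x * s ∈ K := by
    intro x hx
    have hx' : Commute x z := hx
    obtain ⟨i, j, hxe, hxi, hxj⟩ := decomp h4 x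
    have h1 : Commute (x ^ j) y := f3 H hz (hx'.symm.pow_right j).eq hxj hzy.eq hy
    rcases inv_or_one hxi with h | h
    · left
      rw [hKm, hxe, h, one_mul]; exact h1
    rcases f4 H hz h (hx'.symm.pow_right i).eq with h2 | h2
    · left
      rw [hKm, hxe]
      exact (h2.comm_iff.1 hzy.symm).symm.mul_left h1
    · right
      rw [hKm]
      apply mul_inv_eq_iff_eq_mul.1
      have h5 : x * y * x⁻¹ = y⁻¹ := by
        calc x * y * x⁻¹ = x ^ i * x ^ j * y * (x ^ i * x ^ j)⁻¹ := by rw [← hxe]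
          _ = x ^ i * (x ^ j * y * (x ^ j)⁻¹) * (x ^ i)⁻¹ := by group
          _ = x ^ i * y * (x ^ i)⁻¹ := by rw [h1.eq, mul_inv_cancel_right]
          _ = y⁻¹ := h2 y hzy.eq hy
      calc x * s * y * (x * s)⁻¹ = x * (s * y * s⁻¹) * x⁻¹ := by group
        _ = x * y⁻¹ * x⁻¹ := by rw [hsinv y hzy.eq hy]
        _ = (x * y * x⁻¹)⁻¹ := conj_inv_eq _ _
        _ = y := by rw [h5, inv_inv]
  have hab : ∀ a ∈ K, ∀ b ∈ K, a * b = b * a := by
    intro a ha b hb
    obtain ⟨j, hj, hj'⟩ := hKdec a ha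
    obtain ⟨j', hl, hl'⟩ := hKdec b hb
    have haz := hKz a ha
    have hbz := hKz b hb
    have h1 : Commute (a ^ j) (b ^ j') := f3 H hz (haz.symm.pow_right j).eq hj' (hbz.symm.pow_right j').eq hl'
    rcases hj with hj | hj <;> rcases hl with hl | hl <;> rw [hj, hl]
    · exact h1
    · exact (haz.pow_left j).mul_right h1
    · exact ((hbz.pow_left j').symm).mul_left h1
    · exact (((Commute.refl z).mul_right (hbz.pow_left j').symm)).mul_left ((haz.pow_left j).mul_right h1)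
  have hsK : s ∉ K := fun h => hsy ((hKm s).1 h)
  have hinvK : ∀ k ∈ K, s * k * s⁻¹ = k⁻¹ := by
    intro k hk
    obtain ⟨j, hj, hj'⟩ := hKdec k hk
    have hkz := hKz k hk
    have h1 := hsinv (k ^ j) (hkz.symm.pow_right j).eq hj'
    rcases hj with hj | hj
    · rw [← hj] at h1; exact h1
    · calc s * k * s⁻¹ = s * (z * k ^ j) * s⁻¹ := by rw [← hj]
        _ = (s * z * s⁻¹) * (s * k ^ j * s⁻¹) := by group
        _ = z * (k ^ j)⁻¹ := by rw [h1, hzs.symm.eq, mul_inv_cancel_right]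
        _ = z⁻¹ * (k ^ j)⁻¹ := by rw [hz.inv]
        _ = (k ^ j * z)⁻¹ := by rw [mul_inv_rev]
        _ = (z * k ^ j)⁻¹ := by rw [(hkz.pow_left j).eq]
        _ = k⁻¹ := by rw [← hj]
  have hconf : BSW.Conf K z s := by
    refine ⟨hab, (hKm z).2 hzy, hz.1, hz.2, ?_, hsK, hs.2, hinvK, hct, ?_, fun x hx1 hx2 => hconj x ⟨hx1, hx2⟩⟩
    · intro u hu huu
      rcases inv_or_one huu with h | h
      · exact Or.inl h
      · exact Or.inr (hKinv u hu h)
    · intro u hu hu1 huz x hx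
      obtain ⟨j, hj, hj'⟩ := hKdec u hu
      have hne : u ^ j ≠ 1 := by
        intro h
        rw [h, mul_one] at hj
        rcases hj with hj | hj
        · exact hu1 hj
        · exact huz hj
      have hxj : Commute x (u ^ j) := (show Commute x u from hx).pow_right j
      have hxz : Commute x z := f2b H hz ((hKz u hu).symm.pow_right j).eq hj' hne hxj.eq
      rcases hct x hxz.eq with h | h
      · exact h
      · exfalso
        apply hne
        apply eq_one_of_odd_inv hj'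
        have h5 := hinvK (u ^ j) (K.pow_mem hu j)
        have h6 : (x * s) * (u ^ j)⁻¹ = (u ^ j)⁻¹ * (x * s) := hab _ h _ (K.inv_mem (K.pow_mem hu j))
        have h7 : x * (u ^ j) * x⁻¹ = (u ^ j)⁻¹ := by
          calc x * (u ^ j) * x⁻¹ = (x * s) * (s⁻¹ * (u ^ j) * s) * (x * s)⁻¹ := by group
            _ = (x * s) * (s * (u ^ j) * s⁻¹) * (x * s)⁻¹ := by rw [hs.inv]
            _ = (x * s) * (u ^ j)⁻¹ * (x * s)⁻¹ := by rw [h5]
            _ = (u ^ j)⁻¹ := by rw [h6, mul_inv_cancel_right]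
        rw [hxj.eq, mul_inv_cancel_right] at h7
        exact h7
  apply BSW.psl_of_conf hconf
  -- `|K| ≥ 4`
  have h1 : Even (Nat.card K) := even_iff_two_dvd.2 hconf.even_card
  have h2 : orderOf y ∣ Nat.card K := Subgroup.orderOf_dvd_natCard K ((hKm y).2 (Commute.refl y))
  obtain ⟨m, hm⟩ := h1
  have hpos : 0 < Nat.card K := Nat.card_pos
  by_contra hlt
  have h3 : Nat.card K = 2 := by omega
  rw [h3] at h2
  rcases (Nat.dvd_prime Nat.prime_two).1 h2 with h | h
  · exact hy1 (orderOf_eq_one_iff.1 h)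
  · rw [h] at hy; exact absurd hy (by decide)

/-- the case without elements of order four -/
theorem caseA (H : NC G) (hns : NS G) (h4 : ∀ x : G, ¬ Four x) (hZ : ∀ u : G, Inv u → ∃ g, Commute (g * u * g⁻¹) u ∧ g * u * g⁻¹ ≠ u)
    (hex : ∃ z : G, Inv z) :
    (∃ (F : Type) (_ : Field F) (_ : Fintype F), CharP F 2 ∧ Nonempty (G ≃* Matrix.SpecialLinearGroup (Fin 2) F)) ∨
    (∃ (F : Type) (_ : Field F) (_ : Fintype F), Odd (Fintype.card F) ∧
      Nonempty (G ≃* Matrix.ProjectiveSpecialLinearGroup (Fin 2) F)) := by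
  by_cases hc : ∀ z s : G, Inv z → Inv s → Commute z s → ∀ y, Commute z y → Odd (orderOf y) → Commute s y
  · left
    obtain ⟨z, hz⟩ := hex
    obtain ⟨g, hg, hg'⟩ := hZ z hz
    exact sl_of_abCent (abCent_of H h4 hc) hns hz (hz.conj g) hg.symm hg'.symm
  · right
    push Not at hc
    obtain ⟨z, s, hz, hs, hzs, y, hzy, hy, hsy⟩ := hc
    apply caseA2b H h4 hZ hz hs hzs hzy hy hsy
    intro a ha haz has
    by_contra hcon
    push Not at hcon
    exact caseA2a H hns h4 hz hs hzs hzy hy hsy ha haz has hcon.1 hcon.2.1 hcon.2.2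

end Cfsg.Agent.NCy
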