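import Cfsg.Agent.NCy.Basic

set_option autoImplicit false
set_option linter.unusedSectionVars false

/-! # No `Z4 × Z4` (helper2) -/

namespace Cfsg.Agent.NCy

open Cfsg.Agent.AbC

universe u

variable {G : Type u} [Group G]

/-- commuting elements of order four with different squares -/
structure Cfg (x x' : G) : Prop where
  fx : Four x
  fx' : Four x'
  comm : Commute x x'
  ne : x * x ≠ x' * x'

namespace Cfg

variable {x x' : G} (C : Cfg x x')
include C

theorem symm : Cfg x' x := ⟨C.fx', C.fx, C.comm.symm, C.ne.symm⟩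

theorem zz : Commute (x * x) (x' * x') :=
  (C.comm.mul_left C.comm).mul_right (C.comm.mul_left C.comm)

theorem zx' : Commute (x * x) x' := C.comm.mul_left C.comm
theorem xz' : Commute x (x' * x') := C.comm.mul_right C.comm

theorem zz_inv : Inv (x * x * (x' * x')) := by
  refine ⟨?_, ?_⟩
  · intro h
    apply C.ne
    have := mul_eq_one_iff_eq_inv.1 h
    rwa [C.fx'.inv.inv] at this
  · calc x * x * (x' * x') * (x * x * (x' * x')) = (x * x) * ((x' * x') * (x * x)) * (x' * x') := by group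
      _ = (x * x) * ((x * x) * (x' * x')) * (x' * x') := by rw [C.zz.eq]
      _ = ((x * x) * (x * x)) * ((x' * x') * (x' * x')) := by group
      _ = 1 := by rw [C.fx.2, C.fx'.2, mul_one]

theorem mul : Cfg (x * x') x' := by
  have h1 : x * x' * (x * x') = x * x * (x' * x') := by
    calc x * x' * (x * x') = x * (x' * x) * x' := by group
      _ = x * (x * x') * x' := by rw [C.comm.eq]
      _ = _ := by group
  refine ⟨⟨?_, ?_⟩, C.fx', C.comm.mul_left (Commute.refl x'), ?_⟩
  · rw [h1]; exact C.zz_inv.1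
  · rw [h1]; exact C.zz_inv.2
  · rw [h1]
    intro h
    exact C.fx.1 (mul_eq_right.1 h)

theorem sq_mul : x * x' * (x * x') = x * x * (x' * x') := by
  calc x * x' * (x * x') = x * (x' * x) * x' := by group
    _ = x * (x * x') * x' := by rw [C.comm.eq]
    _ = _ := by group

variable [Finite G] (H : NC G)
include H

theorem step_a {c : G} (hc : Commute c (x * x)) :
    c * (x' * x') * c⁻¹ = x' * x' ∨ c * (x' * x') * c⁻¹ = x * x * (x' * x') := by
  have hz' := C.fx'.inv.inv
  have hsq : x * (x' * x') * (x * (x' * x')) = x * x := by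
    calc x * (x' * x') * (x * (x' * x')) = x * ((x' * x') * x) * (x' * x') := by group
      _ = x * (x * (x' * x')) * (x' * x') := by rw [C.xz'.eq]
      _ = x * x * ((x' * x') * (x' * x')) := by group
      _ = x * x := by rw [C.fx'.2, mul_one]
  have hF : Four (x * (x' * x')) := ⟨by rw [hsq]; exact C.fx.1, by rw [hsq]; exact C.fx.2⟩
  have hinv : (x * (x' * x'))⁻¹ = x⁻¹ * (x' * x') := by
    rw [mul_inv_rev, hz']; exact C.xz'.inv_left.symm.eq
  have h1 := f1'' H C.fx hc.eq
  have h2 := f1'' H (c := c) hF (by rw [hsq]; exact hc.eq)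
  rw [hinv] at h2
  have h3 : c * (x' * x') * c⁻¹ = (c * x * c⁻¹)⁻¹ * (c * (x * (x' * x')) * c⁻¹) := by group
  rw [h3]
  rcases h1 with h1 | h1 <;> rcases h2 with h2 | h2 <;> rw [h1, h2]
  · left; group
  · right
    rw [← mul_assoc, C.fx.inv_sq]
  · right
    rw [inv_inv, ← mul_assoc]
  · left; group

theorem bad_facts {c : G} (hc : Commute c (x * x)) (hbad : c * (x' * x') * c⁻¹ = x * x * (x' * x')) :
    Four (c * x' * c⁻¹) ∧ (c * x' * c⁻¹) * (c * x' * c⁻¹) = x * x * (x' * x') ∧ Commute x' (c * x' * c⁻¹) ∧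
    (c * (c * x' * c⁻¹) * c⁻¹ = x' ∨ c * (c * x' * c⁻¹) * c⁻¹ = x'⁻¹) := by
  have h1 := C.fx'.conj c
  have h2 : (c * x' * c⁻¹) * (c * x' * c⁻¹) = x * x * (x' * x') := by rw [conj_sq, hbad]
  have hz : c * (x * x) * c⁻¹ = x * x := by rw [hc.eq, mul_inv_cancel_right]
  have h3 : Commute (c * x' * c⁻¹) (x * x) := by
    have h4 : Commute (c * x' * c⁻¹) (c * (x * x) * c⁻¹) := by
      show (c * x' * c⁻¹) * (c * (x * x) * c⁻¹) = (c * (x * x) * c⁻¹) * (c * x' * c⁻¹)
      calc (c * x' * c⁻¹) * (c * (x * x) * c⁻¹) = c * (x' * (x * x)) * c⁻¹ := by group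
        _ = c * ((x * x) * x') * c⁻¹ := by rw [C.zx'.eq]
        _ = _ := by group
    rwa [hz] at h4
  have h4 : Commute (c * x' * c⁻¹) (x * x * (x' * x')) := by
    rw [← h2]
    exact (Commute.refl _).mul_right (Commute.refl _)
  have h5 : Commute (c * x' * c⁻¹) (x' * x') := by
    have h6 : x' * x' = (x * x)⁻¹ * (x * x * (x' * x')) := by group
    rw [h6]
    exact h3.inv_right.mul_right h4
  refine ⟨h1, h2, ?_, ?_⟩
  · have hx'z : Commute x' (x * x * (x' * x')) := C.zx'.symm.mul_right ((Commute.refl _).mul_right (Commute.refl _))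
    refine comm_of_four C.fx' h1 ?_ ?_ ?_
    · rw [h2]
      intro h
      exact C.fx.1 (mul_eq_right.1 h.symm)
    · exact f1' H h1 (by rw [h2]; exact hx'z.eq)
    · exact f1' H C.fx' h5.eq
  · have h6 : c * (c * x' * c⁻¹) * c⁻¹ = (c * c) * x' * (c * c)⁻¹ := by group
    rw [h6]
    apply f1'' H C.fx'
    apply mul_inv_eq_iff_eq_mul.1
    calc c * c * (x' * x') * (c * c)⁻¹ = c * (c * (x' * x') * c⁻¹) * c⁻¹ := by group
      _ = c * (x * x * (x' * x')) * c⁻¹ := by rw [hbad]
      _ = (c * (x * x) * c⁻¹) * (c * (x' * x') * c⁻¹) := by group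
      _ = (x * x) * (x * x * (x' * x')) := by rw [hz, hbad]
      _ = ((x * x) * (x * x)) * (x' * x') := by group
      _ = x' * x' := by rw [C.fx.2, one_mul]

theorem step_b {c : G} (hc : Commute c (x * x)) (hbad : c * (x' * x') * c⁻¹ = x * x * (x' * x'))
    (hzc : x * x ∈ Subgroup.zpowers c) : False := by
  obtain ⟨h1, h2, h3, h4⟩ := C.bad_facts H hc hbad
  set y := c * x' * c⁻¹ with hy
  have h5 : x' * c * x'⁻¹ ∈ Subgroup.zpowers c := f1 H C.fx.inv hzc C.zx'.symm.eq
  have h6 : x' * y⁻¹ ∈ Subgroup.zpowers c := by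
    have : x' * y⁻¹ = (x' * c * x'⁻¹) * c⁻¹ := by rw [hy]; group
    rw [this]
    exact Subgroup.mul_mem _ h5 (Subgroup.inv_mem _ (Subgroup.mem_zpowers c))
  obtain ⟨k, hk⟩ := Subgroup.mem_zpowers_iff.1 h6
  have h7 : c * (x' * y⁻¹) * c⁻¹ = x' * y⁻¹ := by rw [← hk]; group
  have h8 : c * (x' * y⁻¹) * c⁻¹ = y * (c * y * c⁻¹)⁻¹ := by rw [hy]; group
  rw [h8] at h7
  rcases h4 with h4 | h4
  · rw [h4] at h7
    -- `y x'⁻¹ = x' y⁻¹`
    apply C.fx.1
    have h9 : y * y = x' * x' := by
      calc y * y = (y * x'⁻¹) * (x' * y) := by group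
        _ = (x' * y⁻¹) * (y * x') := by rw [h7, h3.eq]
        _ = x' * x' := by group
    rw [h2] at h9
    exact mul_eq_right.1 h9
  · rw [h4, inv_inv] at h7
    apply C.zz_inv.1
    rw [← h2]
    calc y * y = y * (x' * y * y⁻¹ * x'⁻¹) * y := by group
      _ = y * (y * x' * y⁻¹ * x'⁻¹) * y := by rw [h3.eq]
      _ = y * (y * x') * y⁻¹ * x'⁻¹ * y := by group
      _ = _ := by
        have h10 : y * x' = y⁻¹ * x' := by rw [h7]; exact (h3.inv_right).eq
        have h11 : y = y⁻¹ := mul_right_cancel h10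
        have h12 : y * y = 1 := by
          nth_rewrite 1 [h11]
          exact inv_mul_cancel y
        calc y * (y * x') * y⁻¹ * x'⁻¹ * y = (y * y) * x' * y⁻¹ * x'⁻¹ * y := by group
          _ = x' * y⁻¹ * x'⁻¹ * y := by rw [h12, one_mul]
          _ = (x' * y⁻¹) * x'⁻¹ * y := by group
          _ = (y⁻¹ * x') * x'⁻¹ * y := by rw [(h3.inv_right).eq]
          _ = 1 := by group

theorem not_bad {c : G} (hc : Commute c (x * x)) (hbad : c * (x' * x') * c⁻¹ = x * x * (x' * x')) : False := by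
  have hz : c * (x * x) * c⁻¹ = x * x := by rw [hc.eq, mul_inv_cancel_right]
  have hbad' : c * (x * x * (x' * x')) * c⁻¹ = x' * x' := by
    calc c * (x * x * (x' * x')) * c⁻¹ = (c * (x * x) * c⁻¹) * (c * (x' * x') * c⁻¹) := by group
      _ = (x * x) * (x * x * (x' * x')) := by rw [hz, hbad]
      _ = ((x * x) * (x * x)) * (x' * x') := by group
      _ = x' * x' := by rw [C.fx.2, one_mul]
  have hpow : ∀ n : ℕ, (Even n → c ^ n * (x' * x') * (c ^ n)⁻¹ = x' * x') ∧
      (¬ Even n → c ^ n * (x' * x') * (c ^ n)⁻¹ = x * x * (x' * x')) := by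
    intro n
    induction n with
    | zero => simp
    | succ n ih =>
      have h1 : c ^ (n + 1) * (x' * x') * (c ^ (n + 1))⁻¹ = c * (c ^ n * (x' * x') * (c ^ n)⁻¹) * c⁻¹ := by
        rw [pow_succ']; group
      rw [h1]
      refine ⟨fun h => ?_, fun h => ?_⟩
      · rw [Nat.even_add_one] at h
        rw [ih.2 h, hbad']
      · rw [Nat.even_add_one, not_not] at h
        rw [ih.1 h, hbad]
  have hne : x' * x' ≠ x * x * (x' * x') := fun h => C.fx.1 (mul_eq_right.1 h.symm)
  -- no bad involution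
  have hinvol : ∀ d : G, Inv d → Commute d (x * x) → d * (x' * x') * d⁻¹ = x * x * (x' * x') → False := by
    intro d hd hdz hdb
    obtain ⟨h1, h2, h3, h4⟩ := C.bad_facts H hdz hdb
    set y := d * x' * d⁻¹ with hy
    have h5 : Commute (d * x') (x * x) := hdz.mul_left C.zx'.symm
    have h6 : d * x' * (x' * x') * (d * x')⁻¹ = x * x * (x' * x') := by
      calc d * x' * (x' * x') * (d * x')⁻¹ = d * (x' * x') * d⁻¹ := by group
        _ = _ := hdb
    apply C.step_b H h5 h6
    have h7 : (d * x') * (d * x') = y * x' := by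
      rw [hy, hd.inv]; group
    have h8 : (d * x') ^ 4 = x * x := by
      calc (d * x') ^ 4 = ((d * x') * (d * x')) * ((d * x') * (d * x')) := by
            simp only [pow_succ, pow_zero, one_mul, mul_assoc]
        _ = (y * x') * (y * x') := by rw [h7]
        _ = y * (x' * y) * x' := by group
        _ = y * (y * x') * x' := by rw [h3.eq]
        _ = (y * y) * (x' * x') := by group
        _ = x * x * ((x' * x') * (x' * x')) := by rw [h2]; group
        _ = x * x := by rw [C.fx'.2, mul_one]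
    rw [← h8]
    exact Subgroup.pow_mem _ (Subgroup.mem_zpowers _) 4
  have heven : Even (orderOf c) := by
    by_contra hodd
    have := (hpow (orderOf c)).2 hodd
    rw [pow_orderOf_eq_one, inv_one, mul_one, one_mul] at this
    exact hne this
  obtain ⟨n, hn⟩ := heven
  have hpos : 0 < orderOf c := orderOf_pos c
  have hcn : Inv (c ^ n) := by
    refine ⟨?_, ?_⟩
    · intro h1
      have := orderOf_dvd_of_pow_eq_one h1
      have := Nat.le_of_dvd (by omega) this
      omega
    · rw [← pow_add, ← hn, pow_orderOf_eq_one]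
  by_cases hne2 : Even n
  · have h1 := (hpow n).1 hne2
    have h2 : (x' * x') * c * (x' * x')⁻¹ ∈ Subgroup.zpowers c :=
      f1 H hcn (Subgroup.pow_mem _ (Subgroup.mem_zpowers c) n) (mul_inv_eq_iff_eq_mul.1 h1).symm
    apply C.step_b H hc hbad
    have h3 : x * x = ((x' * x') * c * (x' * x')⁻¹) * c⁻¹ := by
      calc x * x = (x' * x') * (x' * x') * (x * x) := by rw [C.fx'.2, one_mul]
        _ = (x' * x') * ((x' * x') * (x * x)) := by group
        _ = (x' * x') * ((x * x) * (x' * x')) := by rw [C.zz.eq]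
        _ = (x' * x') * (c * (x' * x') * c⁻¹) := by rw [hbad]
        _ = (x' * x') * (c * (x' * x')⁻¹ * c⁻¹) := by rw [C.fx'.inv.inv]
        _ = _ := by group
    rw [h3]
    exact Subgroup.mul_mem _ h2 (Subgroup.inv_mem _ (Subgroup.mem_zpowers c))
  · exact hinvol _ hcn (hc.pow_left n) ((hpow n).2 hne2)

/-- I1 -/
theorem i1 {c : G} (hc : Commute c (x * x)) : Commute c (x' * x') := by
  rcases C.step_a H hc with h | h
  · exact mul_inv_eq_iff_eq_mul.1 h
  · exact absurd h (fun h => C.not_bad H hc h)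

theorem same : Same (x * x) (x' * x') := fun g => ⟨fun h => C.i1 H h, fun h => C.symm.i1 H h⟩

theorem same' : Same (x * x * (x' * x')) (x * x) := by
  have h1 := C.mul.same H
  rw [C.sq_mul] at h1
  exact h1.trans (C.same H).symm

end Cfg

end Cfsg.Agent.NCy
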