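import Cfsg.Agent.NCy.Dih2
import Cfsg.Agent.H80.Index2

set_option autoImplicit false
set_option linter.unusedSectionVars false

/-! # Fusion of involutions (helper2) -/

namespace Cfsg.Agent.NCy

open Cfsg.Agent.AbC

universe u

variable {G : Type u} [Group G]

/-- Brauer-Suzuki-Wall configuration without the conjugacy condition -/
structure Pre (K : Subgroup G) (t s : G) : Prop where
  hab : ∀ a ∈ K, ∀ b ∈ K, a * b = b * a
  tK : t ∈ K
  t1 : t ≠ 1
  tt : t * t = 1
  uniq : ∀ u ∈ K, u * u = 1 → u = 1 ∨ u = t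
  sK : s ∉ K
  ss : s * s = 1
  inv : ∀ u ∈ K, s * u * s⁻¹ = u⁻¹
  ct : ∀ x : G, x * t = t * x → x ∈ K ∨ x * s ∈ K
  cu : ∀ u ∈ K, u ≠ 1 → u ≠ t → ∀ x : G, x * u = u * x → x ∈ K

theorem Pre.conf {K : Subgroup G} {t s : G} (P : Pre K t s) (h : ∀ x : G, Inv x → ∃ g : G, g * x * g⁻¹ = t) : BSW.Conf K t s :=
  ⟨P.hab, P.tK, P.t1, P.tt, P.uniq, P.sK, P.ss, P.inv, P.ct, P.cu, fun x h1 h2 => h x ⟨h1, h2⟩⟩

theorem DC.pre [Finite G] {x x' : G} (C : DC x x') (H : NC G) (hns : NS G) : Pre (CK x) (x * x) (x' * x') where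
  hab := fun a ha b hb => C.k3 H hns ha hb
  tK := mem_CK.2 ((Commute.refl x).mul_left (Commute.refl x))
  t1 := C.fx.1
  tt := C.fx.2
  uniq := by
    intro u hu huu
    rcases inv_or_one huu with h | h
    · exact Or.inl h
    · exact Or.inr (C.k1 H hns hu h)
  sK := C.s_not H hns
  ss := C.sI.2
  inv := fun u hu => C.k2 H hns hu
  ct := fun c hc => C.k4 H hns hc
  cu := fun u hu h1 h2 w hw => C.k5 H hns hu h1 h2 hw

/-- `K ∪ K s` -/
def extS (K : Subgroup G) (s : G) (ss : s * s = 1) (inv : ∀ u ∈ K, s * u * s⁻¹ = u⁻¹) : Subgroup G where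
  carrier := {m | m ∈ K ∨ m * s ∈ K}
  one_mem' := Or.inl K.one_mem
  mul_mem' := by
    have si : s⁻¹ = s := inv_eq_of_mul_eq_one_left ss
    rintro a b (ha | ha) (hb | hb)
    · exact Or.inl (K.mul_mem ha hb)
    · right
      rw [mul_assoc]; exact K.mul_mem ha hb
    · right
      have : a * b * s = (a * s) * (s * b * s⁻¹) := by
        calc a * b * s = a * (s * s) * b * s⁻¹ := by rw [ss, si, mul_one]
          _ = _ := by group
      rw [this, inv b hb]
      exact K.mul_mem ha (K.inv_mem hb)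
    · left
      have : a * b = (a * s) * (s * (b * s) * s⁻¹) := by
        calc a * b = a * (s * s) * b := by rw [ss, mul_one]
          _ = _ := by group
      rw [this, inv _ hb]
      exact K.mul_mem ha (K.inv_mem hb)
  inv_mem' := by
    have si : s⁻¹ = s := inv_eq_of_mul_eq_one_left ss
    rintro a (ha | ha)
    · exact Or.inl (K.inv_mem ha)
    · right
      have h1 := inv _ ha
      have h2 : a⁻¹ * s = (s * (a * s) * s⁻¹)⁻¹ := by
        calc a⁻¹ * s = a⁻¹ * s⁻¹ := by rw [si]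
          _ = _ := by group
      show a⁻¹ * s ∈ K
      rw [h2, h1, inv_inv]; exact ha

theorem mem_extS {K : Subgroup G} {s : G} {ss : s * s = 1} {inv : ∀ u ∈ K, s * u * s⁻¹ = u⁻¹} {m : G} :
    m ∈ extS K s ss inv ↔ m ∈ K ∨ m * s ∈ K := Iff.rfl

theorem card_two_mul [Finite G] {K M : Subgroup G} (hle : K ≤ M) {a : G} (haM : a ∈ M) (haK : a ∉ K) (h : ∀ b ∈ M, b * a ∈ K ∨ b ∈ K) :
    Nat.card M = 2 * Nat.card K := by
  have h1 : K.relIndex M = 2 := Subgroup.relIndex_eq_two_iff_exists_notMem_and.2 ⟨a, haM, haK, h⟩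
  have h2 := Subgroup.card_mul_index (K.subgroupOf M)
  rw [show (K.subgroupOf M).index = 2 from h1] at h2
  have h3 : Nat.card (K.subgroupOf M) = Nat.card K := Nat.card_congr (Subgroup.subgroupOfEquivOfLe hle).toEquiv
  rw [h3] at h2
  omega

/-- the squares of an abelian subgroup -/
def sqK (K : Subgroup G) (hab : ∀ a ∈ K, ∀ b ∈ K, a * b = b * a) : Subgroup G where
  carrier := {a | ∃ b ∈ K, a = b * b}
  one_mem' := ⟨1, Subgroup.one_mem _, by rw [mul_one]⟩
  mul_mem' := by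
    rintro _ _ ⟨a, ha, rfl⟩ ⟨b, hb, rfl⟩
    refine ⟨a * b, Subgroup.mul_mem _ ha hb, ?_⟩
    calc a * a * (b * b) = a * (a * b) * b := by group
      _ = a * (b * a) * b := by rw [hab a ha b hb]
      _ = _ := by group
  inv_mem' := by
    rintro _ ⟨a, ha, rfl⟩
    exact ⟨a⁻¹, Subgroup.inv_mem _ ha, by group⟩

namespace Pre

variable [Finite G] {K : Subgroup G} {t s : G} (P : Pre K t s)
include P

theorem tI : Inv t := ⟨P.t1, P.tt⟩
theorem si : s⁻¹ = s := inv_eq_of_mul_eq_one_left P.ss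
theorem sI : Inv s := ⟨fun h => P.sK (by rw [h]; exact K.one_mem), P.ss⟩

theorem st : Commute s t := by
  apply mul_inv_eq_iff_eq_mul.1
  rw [P.inv t P.tK, P.tI.inv]

theorem card_sq : Nat.card K = 2 * Nat.card (sqK K P.hab) := by
  letI : CommGroup K := { (inferInstance : Group K) with mul_comm := fun a b => Subtype.ext (P.hab a a.2 b b.2) }
  let φ : K →* K := powMonoidHom 2
  have hφ : ∀ a : K, φ a = a * a := fun a => sq a
  have h1 : Nat.card φ.ker = 2 := by
    rw [Nat.card_eq_two_iff]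
    refine ⟨1, ⟨⟨t, P.tK⟩, by rw [MonoidHom.mem_ker, hφ]; exact Subtype.ext P.tt⟩, ?_, ?_⟩
    · intro h
      exact P.t1 (congrArg (fun a : φ.ker => ((a : K) : G)) h).symm
    · rw [Set.eq_univ_iff_forall]
      rintro ⟨a, ha⟩
      rw [MonoidHom.mem_ker, hφ] at ha
      rcases P.uniq a a.2 (congrArg Subtype.val ha) with h | h
      · left; exact Subtype.ext (Subtype.ext h)
      · right; exact Subtype.ext (Subtype.ext h)
  have h2 : Nat.card (sqK K P.hab) = Nat.card φ.range := by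
    apply Nat.card_congr
    refine ⟨fun a => ⟨⟨a, ?_⟩, ?_⟩, fun b => ⟨((b : K) : G), ?_⟩, fun a => rfl, fun b => rfl⟩
    · obtain ⟨b, hb, hab⟩ := a.2
      rw [hab]; exact K.mul_mem hb hb
    · obtain ⟨b, hb, hab⟩ := a.2
      exact ⟨⟨b, hb⟩, Subtype.ext (by rw [hφ]; exact hab.symm)⟩
    · obtain ⟨c, hc⟩ := b.2
      refine ⟨c, c.2, ?_⟩
      rw [← hc, hφ]; rfl
  have h3 := Subgroup.card_mul_index φ.ker
  rw [Subgroup.index_ker, h1, ← h2] at h3
  exact h3.symm

theorem sq_le : sqK K P.hab ≤ K := by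
  rintro _ ⟨b, hb, rfl⟩; exact K.mul_mem hb hb

/-- `K²` has index two in `K` -/
theorem sq_idx {a b : G} (ha : a ∈ K) (hb : b ∈ K) (ha' : a ∉ sqK K P.hab) (hb' : b ∉ sqK K P.hab) :
    a * b ∈ sqK K P.hab := by
  have h1 := Subgroup.card_mul_index ((sqK K P.hab).subgroupOf K)
  have h3 : Nat.card ((sqK K P.hab).subgroupOf K) = Nat.card (sqK K P.hab) :=
    Nat.card_congr (Subgroup.subgroupOfEquivOfLe P.sq_le).toEquiv
  rw [h3, P.card_sq] at h1
  have hpos : 0 < Nat.card (sqK K P.hab) := Nat.card_pos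
  have h2 : ((sqK K P.hab).subgroupOf K).index = 2 := by
    apply Nat.eq_of_mul_eq_mul_left hpos
    rw [h1, mul_comm]
  have h4 := (Subgroup.mul_mem_iff_of_index_two h2 (a := ⟨a, ha⟩) (b := ⟨b, hb⟩))
  rw [Subgroup.mem_subgroupOf, Subgroup.mem_subgroupOf, Subgroup.mem_subgroupOf] at h4
  exact h4.2 ⟨fun h => absurd h ha', fun h => absurd h hb'⟩

theorem exists_nonsq : ∃ k ∈ K, k ∉ sqK K P.hab := by
  by_contra hcon
  push Not at hcon
  have h1 : K ≤ sqK K P.hab := hcon
  have h2 : Nat.card K ≤ Nat.card (sqK K P.hab) :=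
    Nat.card_le_card_of_injective (Subgroup.inclusion h1) (Subgroup.inclusion_injective h1)
  have h3 := P.card_sq
  have hpos : 0 < Nat.card (sqK K P.hab) := Nat.card_pos
  omega

/-- a Sylow 2-subgroup inside `C(t)` -/
theorem exists_sylow {x : G} (hx : x ∈ K) (hxt : x * x = t) : ∃ S : Sylow 2 G, ∀ c ∈ (S : Subgroup G), Commute c t := by
  haveI : Fact (Nat.Prime 2) := ⟨Nat.prime_two⟩
  have hx1 : x ≠ 1 := by rintro rfl; exact P.t1 (by rw [← hxt, mul_one])
  have hxt' : x ≠ t := by rintro rfl; exact P.t1 (by rw [← hxt]; exact P.tt)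
  have hFx : Four x := ⟨by rw [hxt]; exact P.t1, by rw [hxt]; exact P.tt⟩
  have hord : orderOf x = 2 ^ 2 := by
    apply orderOf_eq_prime_pow (n := 1)
    · rw [pow_one, sq]; exact hFx.1
    · exact hFx.pow_four
  have hp1 : IsPGroup 2 (Subgroup.zpowers x) := by
    rw [IsPGroup.iff_card]; exact ⟨2, by rw [Nat.card_zpowers, hord]⟩
  have hp2 : IsPGroup 2 (Subgroup.zpowers s) := by
    rw [IsPGroup.iff_card]; exact ⟨1, by rw [Nat.card_zpowers, P.sI.orderOf, pow_one]⟩
  have hle : Subgroup.zpowers s ≤ Subgroup.normalizer (Subgroup.zpowers x : Set G) := by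
    rw [Subgroup.zpowers_le]
    rw [Subgroup.mem_normalizer_iff]
    have hsx : ∀ k : ℤ, s * x ^ k * s⁻¹ = x ^ (-k) := by
      intro k
      rw [← conj_zpow, P.inv x hx, inv_zpow, zpow_neg]
    intro y
    show y ∈ Subgroup.zpowers x ↔ s * y * s⁻¹ ∈ Subgroup.zpowers x
    constructor
    · intro hy
      obtain ⟨k, rfl⟩ := Subgroup.mem_zpowers_iff.1 hy
      rw [hsx]; exact Subgroup.zpow_mem _ (Subgroup.mem_zpowers x) _
    · intro hy
      obtain ⟨k, hk⟩ := Subgroup.mem_zpowers_iff.1 hy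
      have : y = s * x ^ k * s⁻¹ := by
        calc y = (s * s) * y * (s⁻¹ * s⁻¹) := by rw [P.si, P.ss, one_mul, mul_one]
          _ = s * (s * y * s⁻¹) * s⁻¹ := by group
          _ = _ := by rw [hk]
      rw [this, hsx]; exact Subgroup.zpow_mem _ (Subgroup.mem_zpowers x) _
  obtain ⟨S, hS⟩ := (hp2.to_sup_of_normal_right' hp1 hle).exists_le_sylow
  have hsS : s ∈ (S : Subgroup G) := hS (Subgroup.mem_sup_left (Subgroup.mem_zpowers s))
  have hxS : x ∈ (S : Subgroup G) := hS (Subgroup.mem_sup_right (Subgroup.mem_zpowers x))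
  refine ⟨S, ?_⟩
  -- an involution of the centre
  haveI : Nontrivial S := ⟨⟨⟨x, hxS⟩, 1, fun h => hx1 (congrArg Subtype.val h)⟩⟩
  have hc := S.isPGroup'.center_nontrivial
  have hcp : IsPGroup 2 (Subgroup.center S) := S.isPGroup'.to_subgroup _
  obtain ⟨c, hc1⟩ := exists_ne (1 : Subgroup.center S)
  obtain ⟨w, hw, hwi⟩ := exists_inv_mem (P := Subgroup.center S) hcp (by
    intro h
    apply hc1
    apply Subtype.ext
    exact (Subgroup.eq_bot_iff_forall _).1 h c c.2)
  have hwc : ∀ c ∈ (S : Subgroup G), Commute c (w : G) := by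
    intro c hc
    exact congrArg Subtype.val (Subgroup.mem_center_iff.1 hw ⟨c, hc⟩)
  have hwi' : Inv (w : G) := ⟨fun h => hwi.1 (Subtype.ext h), congrArg Subtype.val hwi.2⟩
  have hwK : (w : G) ∈ K := P.cu x hx hx1 hxt' _ (hwc x hxS).symm.eq
  have hwt : (w : G) = t := (P.uniq _ hwK hwi'.2).resolve_left hwi'.1
  rw [← hwt]; exact hwc

/-- every involution is conjugate to `t` or to an element of `K s` -/
theorem conj_form {x : G} (hx : x ∈ K) (hxt : x * x = t) {v : G} (hv : Inv v) :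
    ∃ g, g * v * g⁻¹ = t ∨ ∃ k ∈ K, g * v * g⁻¹ = k * s := by
  haveI : Fact (Nat.Prime 2) := ⟨Nat.prime_two⟩
  obtain ⟨S, hS⟩ := P.exists_sylow hx hxt
  have hp : IsPGroup 2 (Subgroup.zpowers v) := by
    rw [IsPGroup.iff_card]; exact ⟨1, by rw [Nat.card_zpowers, hv.orderOf, pow_one]⟩
  obtain ⟨T, hT⟩ := hp.exists_le_sylow
  obtain ⟨g, hg⟩ := MulAction.exists_smul_eq G T S
  have hmem : g * v * g⁻¹ ∈ (S : Subgroup G) := by
    have : g * v * g⁻¹ ∈ ((g • T : Sylow 2 G) : Subgroup G) := by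
      rw [Sylow.coe_subgroup_smul]
      exact Subgroup.smul_mem_pointwise_smul v (MulAut.conj g) _ (hT (Subgroup.mem_zpowers v))
    rwa [hg] at this
  refine ⟨g, ?_⟩
  rcases P.ct _ (hS _ hmem).eq with h | h
  · left
    exact (P.uniq _ h (hv.conj g).2).resolve_left (hv.conj g).1
  · right
    refine ⟨_, h, ?_⟩
    rw [mul_assoc (g * v * g⁻¹), P.ss, mul_one]

/-- conjugation inside `K s` -/
theorem conj_ks {a k : G} (ha : a ∈ K) : a * (k * s) * a⁻¹ = a * k * a * s := by
  have h1 : s * a⁻¹ = a * s := by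
    have := P.inv a⁻¹ (K.inv_mem ha)
    rw [inv_inv] at this
    exact mul_inv_eq_iff_eq_mul.1 this
  calc a * (k * s) * a⁻¹ = a * k * (s * a⁻¹) := by group
    _ = a * k * (a * s) := by rw [h1]
    _ = _ := by group

theorem fusion {x : G} (hx : x ∈ K) (hxt : x * x = t) (hst : ∃ g, g * t * g⁻¹ = s) :
    BSW.Conf K t s ∨ ∃ (M : Subgroup G) (K1 : Subgroup M) (t1 s1 : M) (r : G), M.index = 2 ∧ r ∉ M ∧ r * r = 1 ∧ r * t = t * r ∧
      (t1 : G) = t ∧ (s1 : G) = s ∧ (∀ k : M, k ∈ K1 ↔ (k : G) ∈ K) ∧ Nat.card K = 2 * Nat.card K1 ∧ BSW.Conf K1 t1 s1 := by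
  obtain ⟨g0, hg0⟩ := hst
  -- elements of `K² s` are conjugate to `t`
  have hK2 : ∀ k ∈ sqK K P.hab, ∃ g, g * (k * s) * g⁻¹ = t := by
    rintro _ ⟨a, ha, rfl⟩
    refine ⟨g0⁻¹ * a⁻¹, ?_⟩
    have h1 := P.conj_ks (a := a) (k := 1) ha
    rw [one_mul, mul_one] at h1
    calc g0⁻¹ * a⁻¹ * (a * a * s) * (g0⁻¹ * a⁻¹)⁻¹ = g0⁻¹ * (a⁻¹ * (a * a * s) * a) * g0 := by group
      _ = g0⁻¹ * (a⁻¹ * (a * s * a⁻¹) * a) * g0 := by rw [h1]
      _ = g0⁻¹ * s * g0 := by group
      _ = g0⁻¹ * (g0 * t * g0⁻¹) * g0 := by rw [hg0]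
      _ = t := by group
  by_cases hcase : ∃ k ∈ K, k ∉ sqK K P.hab ∧ ∃ g, g * (k * s) * g⁻¹ = t
  · left
    obtain ⟨k, hk, hk', g1, hg1⟩ := hcase
    apply P.conf
    intro v hv
    obtain ⟨g, hg | ⟨k', hk'K, hg⟩⟩ := P.conj_form hx hxt hv
    · exact ⟨g, hg⟩
    · by_cases hsq : k' ∈ sqK K P.hab
      · obtain ⟨h, hh⟩ := hK2 k' hsq
        refine ⟨h * g, ?_⟩
        calc h * g * v * (h * g)⁻¹ = h * (g * v * g⁻¹) * h⁻¹ := by group
          _ = t := by rw [hg, hh]
      · -- `k' = a² k`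
        obtain ⟨a, ha, hak⟩ := P.sq_idx hk'K (K.inv_mem hk) hsq (fun h => hk' (by
          have := (sqK K P.hab).inv_mem h
          rwa [inv_inv] at this))
        refine ⟨g1 * a⁻¹ * g, ?_⟩
        have h1 := P.conj_ks (a := a) (k := k) ha
        have h2 : a * k * a = k' := by
          rw [mul_assoc, P.hab k hk a ha, ← mul_assoc, ← hak, inv_mul_cancel_right]
        rw [h2] at h1
        calc g1 * a⁻¹ * g * v * (g1 * a⁻¹ * g)⁻¹ = g1 * a⁻¹ * (g * v * g⁻¹) * a * g1⁻¹ := by group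
          _ = g1 * a⁻¹ * (a * (k * s) * a⁻¹) * a * g1⁻¹ := by rw [hg, h1]
          _ = g1 * (k * s) * g1⁻¹ := by group
          _ = t := hg1
  · right
    push Not at hcase
    obtain ⟨k0, hk0, hk0'⟩ := P.exists_nonsq
    have hinv2 : ∀ u ∈ sqK K P.hab, s * u * s⁻¹ = u⁻¹ := fun u hu => P.inv u (P.sq_le hu)
    have hs2 : s ∉ sqK K P.hab := fun h => P.sK (P.sq_le h)
    set M1 := extS (sqK K P.hab) s P.ss hinv2 with hM1
    set C := Subgroup.centralizer ({t} : Set G) with hC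
    have hCm : ∀ c : G, c ∈ C ↔ Commute c t := fun c => Subgroup.mem_centralizer_singleton_iff
    have hcardM1 : Nat.card M1 = 2 * Nat.card (sqK K P.hab) := by
      apply card_two_mul (a := s)
      · intro a ha; exact Or.inl ha
      · exact Or.inr (by rw [P.ss]; exact Subgroup.one_mem _)
      · exact hs2
      · rintro b (hb | hb)
        · exact Or.inr hb
        · exact Or.inl hb
    have hcardC : Nat.card C = 2 * Nat.card K := by
      apply card_two_mul (a := s)
      · intro a ha; exact (hCm a).2 (P.hab a ha t P.tK)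
      · exact (hCm s).2 P.st
      · exact P.sK
      · intro b hb
        exact (P.ct b ((hCm b).1 hb).eq).symm
    have hCodd : Odd C.index := by
      obtain ⟨S, hS⟩ := P.exists_sylow hx hxt
      haveI : Fact (Nat.Prime 2) := ⟨Nat.prime_two⟩
      have h1 : (S : Subgroup G) ≤ C := fun c hc => (hCm c).2 (hS c hc)
      have h2 : ¬ 2 ∣ (S : Subgroup G).index := S.not_dvd_index
      rw [← Nat.not_even_iff_odd, even_iff_two_dvd]
      intro h3
      exact h2 (h3.trans (Subgroup.index_dvd_of_le h1))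
    have hidx : M1.index % 4 = 2 := by
      have h1 := Subgroup.card_mul_index M1
      have h2 := Subgroup.card_mul_index C
      rw [← h2, hcardM1, hcardC, P.card_sq] at h1
      have hpos : 0 < Nat.card (sqK K P.hab) := Nat.card_pos
      have h3 : M1.index = 2 * C.index := by
        apply Nat.eq_of_mul_eq_mul_left (Nat.mul_pos (by norm_num : 0 < 2) hpos)
        rw [h1]; ring
      obtain ⟨m, hm⟩ := hCodd
      omega
    have hrr : (k0 * s) * (k0 * s) = 1 := by
      have h1 := P.inv k0 hk0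
      calc (k0 * s) * (k0 * s) = k0 * (s * k0 * s⁻¹) * (s * s) := by group
        _ = 1 := by rw [h1, P.ss]; group
    have hr1 : k0 * s ≠ 1 := by
      intro h
      have := mul_eq_one_iff_eq_inv.1 h
      rw [P.si] at this
      exact P.sK (this ▸ hk0)
    have hrI : Inv (k0 * s) := ⟨hr1, hrr⟩
    obtain ⟨M, hM, hrM⟩ := H80.thompson_transfer M1 hidx (k0 * s) hrI.orderOf (by
      intro g hg
      rcases hg with hg | hg
      · -- in `K²`: it is `t`
        have h1 := (P.uniq _ (P.sq_le hg) (hrI.conj g).2).resolve_left (hrI.conj g).1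
        exact hcase k0 hk0 hk0' g h1
      · obtain ⟨h, hh⟩ := hK2 _ hg
        rw [mul_assoc (g * (k0 * s) * g⁻¹), P.ss, mul_one] at hh
        apply hcase k0 hk0 hk0' (h * g)
        calc h * g * (k0 * s) * (h * g)⁻¹ = h * (g * (k0 * s) * g⁻¹) * h⁻¹ := by group
          _ = t := hh)
    haveI hMn : M.Normal := Subgroup.normal_of_index_eq_two hM
    have htM : t ∈ M := by rw [← hxt]; exact Subgroup.mul_self_mem_of_index_two hM x
    have hsM : s ∈ M := by rw [← hg0]; exact hMn.conj_mem t htM g0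
    have hk0M : k0 ∉ M := fun h => hrM (M.mul_mem h hsM)
    have hsqM : ∀ a ∈ sqK K P.hab, a ∈ M := by
      rintro _ ⟨b, -, rfl⟩; exact Subgroup.mul_self_mem_of_index_two hM b
    have hKM : ∀ k ∈ K, k ∈ M → k ∈ sqK K P.hab := by
      intro k hk hkM
      by_contra hk'
      have h1 := hsqM _ (P.sq_idx hk0 hk hk0' hk')
      exact hk0M ((M.mul_mem_cancel_right hkM).1 h1)
    have hrt : (k0 * s) * t = t * (k0 * s) := by
      have h1 : Commute k0 t := P.hab k0 hk0 t P.tK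
      exact (h1.mul_left P.st).eq
    have hnr : ∀ g, g ∉ M → g * (k0 * s) ∈ M := by
      intro g hg
      rw [Subgroup.mul_mem_iff_of_index_two hM]
      exact ⟨fun h => absurd h hg, fun h => absurd h hrM⟩
    refine ⟨M, K.subgroupOf M, ⟨t, htM⟩, ⟨s, hsM⟩, k0 * s, hM, hrM, hrr, hrt, rfl, rfl, fun k => Iff.rfl, ?_, ?_⟩
    · rw [P.card_sq]
      congr 1
      apply Nat.card_congr
      refine ⟨fun a => ⟨⟨a, hsqM a a.2⟩, P.sq_le a.2⟩, fun b => ⟨((b : M) : G), hKM _ b.2 (b : M).2⟩, fun a => rfl, fun b => rfl⟩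
    · refine ⟨?_, P.tK, fun h => P.t1 (congrArg Subtype.val h), Subtype.ext P.tt, ?_, P.sK, Subtype.ext P.ss, ?_, ?_, ?_, ?_⟩
      · intro a ha b hb
        exact Subtype.ext (P.hab a ha b hb)
      · intro u hu huu
        rcases P.uniq u hu (congrArg Subtype.val huu) with h | h
        · exact Or.inl (Subtype.ext h)
        · exact Or.inr (Subtype.ext h)
      · intro u hu
        exact Subtype.ext (P.inv u hu)
      · intro y hy
        exact P.ct y (congrArg Subtype.val hy)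
      · intro u hu h1 h2 y hy
        exact P.cu u hu (fun h => h1 (Subtype.ext h)) (fun h => h2 (Subtype.ext h)) y (congrArg Subtype.val hy)
      · intro v hv1 hv2
        have hv : Inv (v : G) := ⟨fun h => hv1 (Subtype.ext h), congrArg Subtype.val hv2⟩
        obtain ⟨h, hh⟩ : ∃ h, h * (v : G) * h⁻¹ = t := by
          obtain ⟨g, hg | ⟨k, hk, hg⟩⟩ := P.conj_form hx hxt hv
          · exact ⟨g, hg⟩
          · have h1 : k * s ∈ M := by rw [← hg]; exact hMn.conj_mem v v.2 g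
            have h2 : k ∈ M := (M.mul_mem_cancel_right hsM).1 h1
            obtain ⟨h, hh⟩ := hK2 k (hKM k hk h2)
            refine ⟨h * g, ?_⟩
            calc h * g * v * (h * g)⁻¹ = h * (g * v * g⁻¹) * h⁻¹ := by group
              _ = t := by rw [hg, hh]
        by_cases hhM : h ∈ M
        · exact ⟨⟨h, hhM⟩, Subtype.ext hh⟩
        · -- replace `h` by `r h`
          have h1 : (k0 * s) * h ∈ M := by
            rw [Subgroup.mul_mem_iff_of_index_two hM]
            exact ⟨fun h => absurd h hrM, fun h' => absurd h' hhM⟩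
          refine ⟨⟨(k0 * s) * h, h1⟩, Subtype.ext ?_⟩
          show (k0 * s) * h * (v : G) * ((k0 * s) * h)⁻¹ = t
          calc (k0 * s) * h * (v : G) * ((k0 * s) * h)⁻¹ = (k0 * s) * (h * v * h⁻¹) * (k0 * s)⁻¹ := by group
            _ = t := by rw [hh, hrt, mul_inv_cancel_right]

end Pre

end Cfsg.Agent.NCy
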