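import Cfsg.Agent.NCy.Basic
import Cfsg.Agent.NCy.AbUse
import Cfsg.Agent.AutPSL.Lang
import Cfsg.Agent.AutPSL.Two
import Cfsg.Agent.H34.Mobius

set_option autoImplicit false
set_option linter.unusedSectionVars false

/-! # Identification of `PGL(2,q)` (helper2) -/

namespace Cfsg.Agent.NCy

open Cfsg.Agent.AbC Cfsg.Agent.AutPSL

universe u

/-- a group with a subgroup `M ≅ PSL(2,F)` of index two with trivial centralizer and inducing only
inner-diagonal automorphisms -/
theorem pgl_of_range {G : Type u} [Group G] [Finite G] {F : Type} [Field F] [Fintype F] (hodd : Odd (Fintype.card F))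
    (M : Subgroup G) (hM : M.index = 2) (e : M ≃* Matrix.ProjectiveSpecialLinearGroup (Fin 2) F)
    (α : G →* MulAut (Matrix.ProjectiveSpecialLinearGroup (Fin 2) F)) (hα : Function.Injective α)
    (hr : ∀ g, α g ∈ (diagHom 2 F).range) : Nonempty (G ≃* Matrix.ProjGenLinGroup (Fin 2) F) := by
  classical
  have h2 : (2 : F) ≠ 0 := by
    intro h
    obtain ⟨p, hp⟩ := CharP.exists F
    haveI : Fact p.Prime := ⟨CharP.char_is_prime F p⟩
    have h3 : p ∣ 2 := (CharP.cast_eq_zero_iff F p 2).1 (by exact_mod_cast h)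
    have hp2 : p = 2 := (Nat.prime_dvd_prime_iff_eq (Fact.out) Nat.prime_two).1 h3
    obtain ⟨n, hn, hc⟩ := FiniteField.card F p
    rw [hc, hp2] at hodd
    exact absurd hodd (Nat.not_odd_iff_even.2 (Nat.even_pow.2 ⟨even_two, n.ne_zero⟩))
  let f : G →* (diagHom 2 F).range := α.codRestrict _ hr
  have hf : Function.Injective f := by
    intro a b hab
    exact hα (congrArg Subtype.val hab)
  have hker : (diagHom 2 F).ker = Subgroup.center (Matrix.GeneralLinearGroup (Fin 2) F) := ker_diagHom le_rfl
  have hker' : (H34.mob (K := F)).ker = Subgroup.center (Matrix.GeneralLinearGroup (Fin 2) F) := H34.mob_ker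
  have hcr : Nat.card (diagHom 2 F).range = (Nat.card F + 1) * (Nat.card F * (Nat.card F - 1)) := by
    rw [← H34.card_mob_range, ← Subgroup.index_ker, ← Subgroup.index_ker, hker, hker']
  have hcG : Nat.card G = (Nat.card F + 1) * (Nat.card F * (Nat.card F - 1)) := by
    rw [← H34.card_sl2]
    have h3 := Subgroup.card_mul_index M
    rw [hM] at h3
    have h4 : Nat.card M = Nat.card (Matrix.ProjectiveSpecialLinearGroup (Fin 2) F) := Nat.card_congr e.toEquiv
    have h5 := Subgroup.card_mul_index (Subgroup.center (Matrix.SpecialLinearGroup (Fin 2) F))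
    rw [H34.card_center_sl2 h2] at h5
    have h6 : Nat.card (Matrix.ProjectiveSpecialLinearGroup (Fin 2) F) = (Subgroup.center (Matrix.SpecialLinearGroup (Fin 2) F)).index := rfl
    rw [← h3, ← h5, h4, h6, mul_comm]
  have hbij : Function.Bijective f := (Nat.bijective_iff_injective_and_card f).2 ⟨hf, by rw [hcG, hcr]⟩
  refine ⟨(MulEquiv.ofBijective f hbij).trans ((QuotientGroup.quotientKerEquivRange (diagHom 2 F)).symm.trans
    (QuotientGroup.quotientMulEquivOfEq hker))⟩

theorem uu_pow {F : Type} [Field F] (a : F) (n : ℕ) : (uu a) ^ n = uu ((n : F) * a) := by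
  induction n with
  | zero =>
    rw [pow_zero, Nat.cast_zero, zero_mul]
    have h := uu_add (F := F) 0 0
    rw [add_zero] at h
    exact (mul_eq_left.1 h.symm).symm
  | succ n ih => rw [pow_succ, ih, ← uu_add]; congr 1; push_cast; ring

theorem odd_uu {F : Type} [Field F] [Fintype F] (hodd : Odd (Fintype.card F)) (a : F) : Odd (orderOf (uu a)) := by
  have h1 : (uu a) ^ (Fintype.card F) = 1 := by
    rw [uu_pow, FiniteField.cast_card_eq_zero, ← Nat.cast_zero, ← uu_pow, pow_zero]
  exact Odd.of_dvd_nat hodd (orderOf_dvd_of_pow_eq_one h1)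

theorem cAut_uu {F : Type} [Field F] (σ : F ≃+* F) (a : F) : cAut 1 σ (uu a) = uu (σ a) := by
  unfold uu
  rw [cAut_toPSL]
  refine congrArg toPSL (Subtype.ext ?_)
  rw [coe_conjSL, coe_mapSL]
  ext i j
  fin_cases i <;> fin_cases j <;> simp [uSL]

variable {G : Type u} [Group G] [Finite G]

theorem pgl_of (H : NC G) {F : Type} [Field F] [Fintype F] (hodd : Odd (Fintype.card F))
    (M : Subgroup G) (hM : M.index = 2) (e : M ≃* Matrix.ProjectiveSpecialLinearGroup (Fin 2) F)
    (hcent : Subgroup.centralizer (M : Set G) = ⊥) {r : G} (hrM : r ∉ M) (hrr : r * r = 1) :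
    Nonempty (G ≃* Matrix.ProjGenLinGroup (Fin 2) F) := by
  haveI hMn : M.Normal := Subgroup.normal_of_index_eq_two hM
  let α : G →* MulAut (Matrix.ProjectiveSpecialLinearGroup (Fin 2) F) :=
    (MulAut.congr e).toMonoidHom.comp (MulAut.conjNormal : G →* MulAut M)
  have hα : ∀ (g : G) (m : M), α g (e m) = e (MulAut.conjNormal g m) := by
    intro g m
    show e (MulAut.conjNormal g (e.symm (e m))) = _
    rw [MulEquiv.symm_apply_apply]
  have hinj : Function.Injective α := by
    rw [← MonoidHom.ker_eq_bot_iff, eq_bot_iff, ← hcent]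
    intro g hg
    rw [Subgroup.mem_centralizer_iff]
    intro m hm
    have h1 := hα g ⟨m, hm⟩
    rw [(MonoidHom.mem_ker).1 hg] at h1
    have h2 : (⟨m, hm⟩ : M) = MulAut.conjNormal g ⟨m, hm⟩ := e.injective h1
    have h3 := congrArg Subtype.val h2
    rw [MulAut.conjNormal_apply] at h3
    exact eq_mul_inv_iff_mul_eq.1 h3
  have hMr : ∀ m : G, m ∈ M → α m ∈ (diagHom 2 F).range := by
    intro m hm
    obtain ⟨s, hs⟩ := toPSL_surjective (e ⟨m, hm⟩)
    refine ⟨Matrix.SpecialLinearGroup.toGL s, ?_⟩
    rw [diagHom_apply, ← conj_toPSL, hs]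
    apply MulEquiv.ext
    intro x
    obtain ⟨y, rfl⟩ := e.surjective x
    rw [hα, MulAut.conj_apply, ← map_inv, ← map_mul, ← map_mul]
    congr 1
  have hrI : Inv r := ⟨fun h => hrM (by rw [h]; exact M.one_mem), hrr⟩
  have hrr' : α r ∈ (diagHom 2 F).range := by
    obtain ⟨A, σ, hA⟩ := aut_classify_two (α r)
    by_cases hσ : σ = RingEquiv.refl F
    · exact ⟨A, by rw [hA, hσ]; rfl⟩
    exfalso
    have h1 : α r * α r = 1 := by rw [← map_mul, hrr, map_one]
    have hA' : α r = diagHom 2 F A * cAut 1 σ := by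
      rw [hA, diagHom_apply, cAut_mul, map_one, mul_one]; rfl
    have h2 : ((σ : RingAut F)) * σ = 1 := by
      rw [hA, cAut_mul, cAut_eq_one_iff (by rw [Fintype.card_fin])] at h1
      exact h1.1
    have hord : orderOf (σ : RingAut F) = 2 := orderOf_eq_prime (by rw [sq]; exact h2) hσ
    obtain ⟨B, hB⟩ := field_lang (F := F) (n := 2) le_rfl σ A (by
      rw [hord, sq, ← hA']; exact h1)
    rw [← hA'] at hB
    -- `r` commutes with `u`
    have hfix : ∀ a : F, α r (diagHom 2 F B (uu a)) = diagHom 2 F B (uu (σ a)) := by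
      intro a
      rw [hB, MulAut.mul_apply, MulAut.mul_apply, MulAut.inv_apply_self, cAut_uu]
    have hcomm : ∀ a : F, σ a = a ↔ r * (e.symm (diagHom 2 F B (uu a)) : G) = (e.symm (diagHom 2 F B (uu a)) : G) * r := by
      intro a
      have h3 := hα r (e.symm (diagHom 2 F B (uu a)))
      rw [MulEquiv.apply_symm_apply, hfix] at h3
      constructor
      · intro h
        rw [h] at h3
        have h4 : e.symm (diagHom 2 F B (uu a)) = MulAut.conjNormal r (e.symm (diagHom 2 F B (uu a))) := by
          apply e.injective; rw [MulEquiv.apply_symm_apply]; exact h3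
        have h5 := congrArg Subtype.val h4
        rw [MulAut.conjNormal_apply] at h5
        exact (eq_mul_inv_iff_mul_eq.1 h5).symm
      · intro h
        have h4 : MulAut.conjNormal r (e.symm (diagHom 2 F B (uu a))) = e.symm (diagHom 2 F B (uu a)) := by
          apply Subtype.ext
          rw [MulAut.conjNormal_apply, h, mul_inv_cancel_right]
        rw [h4, MulEquiv.apply_symm_apply] at h3
        exact uu_injective ((diagHom 2 F B).injective h3)
    have hu := (hcomm 1).1 (map_one σ)
    set v : G := (e.symm (diagHom 2 F B (uu 1)) : G) with hv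
    have hvodd : Odd (orderOf v) := by
      rw [hv, Subgroup.orderOf_coe, MulEquiv.orderOf_eq, MulEquiv.orderOf_eq]
      exact odd_uu hodd 1
    have hv1 : v ≠ 1 := by
      intro h
      have h3 : e.symm (diagHom 2 F B (uu 1)) = 1 := Subtype.ext h
      rw [MulEquiv.map_eq_one_iff, MulEquiv.map_eq_one_iff] at h3
      have h4 : (uu (1 : F)) = uu 0 := by
        rw [h3, ← pow_zero (uu (0 : F)), uu_pow]; congr 1; simp
      exact one_ne_zero (uu_injective h4)
    apply hσ
    apply RingEquiv.ext
    intro a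
    show σ a = a
    rw [hcomm]
    have h5 : (e.symm (diagHom 2 F B (uu a)) : G) * v = v * (e.symm (diagHom 2 F B (uu a)) : G) := by
      rw [hv, ← Subgroup.coe_mul, ← Subgroup.coe_mul, ← map_mul, ← map_mul, ← map_mul, ← map_mul, ← uu_add, ← uu_add, add_comm]
    exact (f2b H hrI hu hvodd hv1 h5).symm
  refine pgl_of_range hodd M hM e α hinj ?_
  intro g
  by_cases hg : g ∈ M
  · exact hMr g hg
  · have h1 : g * r⁻¹ ∈ M := by
      rw [Subgroup.mul_mem_iff_of_index_two hM, Subgroup.inv_mem_iff]
      exact ⟨fun h => absurd h hg, fun h => absurd h hrM⟩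
    have h2 : g = (g * r⁻¹) * r := by group
    rw [h2, map_mul]
    exact Subgroup.mul_mem _ (hMr _ h1) hrr'

end Cfsg.Agent.NCy
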