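import Cfsg.Agent.NCy.AbUse
import Cfsg.Agent.BSW.Main
import Cfsg.Agent.S0144
import Cfsg.Agent.S0252
import Cfsg.Agent.S0253
import Cfsg.Agent.H14.SubField
import Cfsg.Agent.H34.Mobius

set_option autoImplicit false
set_option linter.unusedSectionVars false

/-! # Small cases (helper2) -/

namespace Cfsg.Agent.NCy

open Cfsg.Agent.AbC

universe u

theorem sl_equiv_psl_even {F : Type} [Field F] [CharP F 2] :
    Nonempty (Matrix.SpecialLinearGroup (Fin 2) F ≃* Matrix.ProjectiveSpecialLinearGroup (Fin 2) F) := by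
  have hcen : Subgroup.center (Matrix.SpecialLinearGroup (Fin 2) F) = ⊥ := by
    rw [eq_bot_iff]
    intro x hx
    rw [Matrix.SpecialLinearGroup.mem_center_iff] at hx
    obtain ⟨r, hr, h⟩ := hx
    rw [Fintype.card_fin] at hr
    have hr1 : r = 1 := sl2_eq_one_of_sq r hr
    rw [Subgroup.mem_bot]
    apply Subtype.ext
    rw [← h, hr1]
    simp
  have hinj : Function.Injective (QuotientGroup.mk' (Subgroup.center (Matrix.SpecialLinearGroup (Fin 2) F))) := by
    rw [← MonoidHom.ker_eq_bot_iff, QuotientGroup.ker_mk', hcen]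
  exact ⟨MulEquiv.ofBijective _ ⟨hinj, QuotientGroup.mk'_surjective _⟩⟩

variable {G : Type u} [Group G] [Finite G]

theorem sl_of_abCent' (hab : AbCent G) (heven : Even (Nat.card G)) (hcyc : ¬ ∀ P : Sylow 2 G, IsCyclic ↥P)
    (hnor : ¬ ∀ P : Sylow 2 G, (P : Subgroup G).Normal) (hcen : Subgroup.center G = ⊥) :
    ∃ (F : Type) (_ : Field F) (_ : Fintype F), CharP F 2 ∧ Nonempty (G ≃* Matrix.SpecialLinearGroup (Fin 2) F) := by
  rcases AbC.main heven hab with h | h | h
  · exact absurd h hcyc
  · exact absurd h hnor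
  · obtain ⟨F, i1, i2, A, i3, i4, hF, hA, ⟨e⟩⟩ := h
    refine ⟨F, i1, i2, hF, ?_⟩
    let f : G →* Matrix.SpecialLinearGroup (Fin 2) F := (MonoidHom.fst _ _).comp e.toMonoidHom
    have hf : ∀ g, f g = (e g).1 := fun g => rfl
    have hker : f.ker = ⊥ := by
      rw [eq_bot_iff, ← hcen]
      intro a ha
      rw [Subgroup.mem_center_iff]
      intro b
      have ha' : (e a).1 = 1 := (hf _).symm.trans (MonoidHom.mem_ker.1 ha)
      apply e.injective
      rw [map_mul, map_mul]
      apply Prod.ext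
      · rw [Prod.fst_mul, Prod.fst_mul, ha', one_mul, mul_one]
      · rw [Prod.snd_mul, Prod.snd_mul, mul_comm]
    refine ⟨MulEquiv.ofBijective f ⟨(MonoidHom.ker_eq_bot_iff f).1 hker, ?_⟩⟩
    intro y
    refine ⟨e.symm (y, 1), ?_⟩
    rw [hf, MulEquiv.apply_symm_apply]

theorem abCent_of_conf {K : Subgroup G} {t s : G} (Cf : BSW.Conf K t s) (hk : Nat.card K = 2) : AbCent G := by
  have hK : ∀ u ∈ K, u = 1 ∨ u = t := by
    intro u hu
    apply Cf.uniq u hu
    have h1 : (⟨u, hu⟩ : K) ^ 2 = 1 := by rw [← hk]; exact pow_card_eq_one'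
    have h2 := congrArg Subtype.val h1
    rw [sq] at h2
    exact h2
  have hst : Commute s t := by
    apply mul_inv_eq_iff_eq_mul.1
    rw [Cf.inv t Cf.tK]
    exact inv_eq_of_mul_eq_one_left Cf.tt
  have hform : ∀ a : G, a * t = t * a → a = 1 ∨ a = t ∨ a = s ∨ a = t * s := by
    intro a ha
    rcases Cf.ct a ha with h | h
    · rcases hK a h with h | h
      · exact Or.inl h
      · exact Or.inr (Or.inl h)
    · have h1 : a = (a * s) * s := by rw [mul_assoc, Cf.ss, mul_one]
      rcases hK _ h with h | h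
      · right; right; left; rw [h1, h, one_mul]
      · right; right; right; rw [h1, h]
  have hcomm : ∀ a b : G, a * t = t * a → b * t = t * b → a * b = b * a := by
    intro a b ha hb
    have ha' : Commute a t := ha
    have hb' : Commute b t := hb
    rcases hform b hb with h | h | h | h
    · rw [h, mul_one, one_mul]
    · rw [h]; exact ha
    · rw [h]
      rcases hform a ha with h' | h' | h' | h'
      · rw [h', mul_one, one_mul]
      · rw [h']; exact hst.symm.eq
      · rw [h']
      · rw [h']; exact ((hst.symm).mul_left (Commute.refl s)).eq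
    · rw [h]
      rcases hform a ha with h' | h' | h' | h'
      · rw [h', mul_one, one_mul]
      · rw [h']; exact ((Commute.refl t).mul_right hst.symm).eq
      · rw [h']; exact (hst.mul_right (Commute.refl s)).eq
      · rw [h']
  intro v hv a b ha hb
  obtain ⟨g, hg⟩ := Cf.conj v hv.1 hv.2
  have key : ∀ c : G, c * v = v * c → (g * c * g⁻¹) * t = t * (g * c * g⁻¹) := by
    intro c hc
    rw [← hg]
    calc (g * c * g⁻¹) * (g * v * g⁻¹) = g * (c * v) * g⁻¹ := by group
      _ = g * (v * c) * g⁻¹ := by rw [hc]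
      _ = _ := by group
  have h1 := hcomm _ _ (key a ha) (key b hb)
  calc a * b = g⁻¹ * ((g * a * g⁻¹) * (g * b * g⁻¹)) * g := by group
    _ = g⁻¹ * ((g * b * g⁻¹) * (g * a * g⁻¹)) * g := by rw [h1]
    _ = b * a := by group

theorem psl_of_conf2 {K : Subgroup G} {t s : G} (Cf : BSW.Conf K t s) (hk : Nat.card K = 2)
    (hnor : ¬ ∀ P : Sylow 2 G, (P : Subgroup G).Normal) (hcen : Subgroup.center G = ⊥) :
    ∃ (F : Type) (_ : Field F) (_ : Fintype F), Odd (Fintype.card F) ∧
      Nonempty (G ≃* Matrix.ProjectiveSpecialLinearGroup (Fin 2) F) := by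
  classical
  have ht : Inv t := ⟨Cf.t1, Cf.tt⟩
  have hs : Inv s := ⟨fun h => Cf.sK (by rw [h]; exact K.one_mem), Cf.ss⟩
  have hst : Commute s t := by
    apply mul_inv_eq_iff_eq_mul.1
    rw [Cf.inv t Cf.tK, ht.inv]
  have hcyc := not_cyclic_sylow hs ht hst (fun h => Cf.sK (h ▸ Cf.tK))
  obtain ⟨F, i1, i2, hF, ⟨e⟩⟩ := sl_of_abCent' (abCent_of_conf Cf hk) (even_card_of_inv ht) hcyc hnor hcen
  haveI := hF
  -- the order of `F`
  have hcc := Cf.card_centralizer
  rw [hk] at hcc
  let U : F → Matrix.SpecialLinearGroup (Fin 2) F := fun b => ⟨!![1, b; 0, 1], by rw [Matrix.det_fin_two_of]; ring⟩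
  have hUmul : ∀ a b, U a * U b = U (a + b) := by
    intro a b
    apply Subtype.ext
    rw [Matrix.SpecialLinearGroup.coe_mul]
    ext i j
    fin_cases i <;> fin_cases j <;> simp [U, Matrix.mul_apply, add_comm]
  have hUinj : Function.Injective U := by
    intro a b hab
    have := congrArg (fun M : Matrix.SpecialLinearGroup (Fin 2) F => (M : Matrix (Fin 2) (Fin 2) F) 0 1) hab
    simpa [U] using this
  have hU0 : U 0 = 1 := by
    apply Subtype.ext
    ext i j
    fin_cases i <;> fin_cases j <;> simp [U]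
  set v : G := e.symm (U 1) with hv
  have hvI : Inv v := by
    constructor
    · intro h
      have h1 : U 1 = U 0 := by
        rw [hU0, ← e.apply_symm_apply (U 1), ← hv, h, map_one]
      exact one_ne_zero (hUinj h1)
    · rw [hv, ← map_mul, hUmul, CharTwo.add_self_eq_zero, hU0, map_one]
  obtain ⟨g, hg⟩ := Cf.conj v hvI.1 hvI.2
  have h1 : Nat.card F ≤ 4 := by
    have h2 : Nat.card (Subgroup.centralizer ({t} : Set G)) = 4 := by rw [hcc]
    rw [← h2]
    refine Nat.card_le_card_of_injective (fun b : F => (⟨g * e.symm (U b) * g⁻¹, ?_⟩ : Subgroup.centralizer ({t} : Set G))) ?_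
    · rw [Subgroup.mem_centralizer_singleton_iff, ← hg]
      have h3 : e.symm (U b) * v = v * e.symm (U b) := by
        rw [hv, ← map_mul, ← map_mul, hUmul, hUmul, add_comm]
      calc (g * e.symm (U b) * g⁻¹) * (g * v * g⁻¹) = g * (e.symm (U b) * v) * g⁻¹ := by group
        _ = g * (v * e.symm (U b)) * g⁻¹ := by rw [h3]
        _ = _ := by group
    · intro a b hab
      have h3 := congrArg Subtype.val hab
      exact hUinj (e.symm.injective (mul_left_cancel (mul_right_cancel h3)))
  have h4 : 4 ∣ Nat.card G := by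
    have h5 := Subgroup.card_subgroup_dvd_card (Subgroup.centralizer ({t} : Set G))
    rw [hcc] at h5
    exact h5
  obtain ⟨n, hn, hc⟩ := FiniteField.card F 2
  rw [Nat.card_eq_fintype_card] at h1
  have hcG : Nat.card G = (Nat.card F + 1) * (Nat.card F * (Nat.card F - 1)) := by
    rw [← H34.card_sl2]; exact Nat.card_congr e.toEquiv
  rw [Nat.card_eq_fintype_card (α := F)] at hcG
  have hF4 : Fintype.card F = 4 := by
    rw [hc] at h1 hcG ⊢
    have hn0 : 0 < (n : ℕ) := n.pos
    have hn3 : (n : ℕ) ≤ 2 := by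
      by_contra hcon
      have : 3 ≤ (n : ℕ) := by omega
      have := Nat.pow_le_pow_right (by norm_num : 0 < 2) this
      omega
    interval_cases (n : ℕ)
    · exfalso
      rw [hcG] at h4
      norm_num at h4
    · norm_num
  obtain ⟨e1⟩ := sl_equiv_psl_even (F := F)
  obtain ⟨e2⟩ := Cfsg.Agent.S0252.result hF4
  haveI : Fact (Nat.Prime 5) := ⟨by norm_num⟩
  obtain ⟨e3⟩ := Cfsg.Agent.S0253.result (F := ZMod 5) (ZMod.card 5)
  refine ⟨ZMod 5, inferInstance, inferInstance, ?_, ⟨e.trans (e1.trans (e2.trans e3.symm))⟩⟩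
  rw [ZMod.card]; decide

/-- `PSL(2,q)` is solvable for `q ≤ 3` -/
theorem solvable_psl_small {F : Type} [Field F] [Fintype F] (h : Fintype.card F ≤ 3) (e : G ≃* Matrix.ProjectiveSpecialLinearGroup (Fin 2) F) :
    Group.IsSolvable G := by
  classical
  have h1 : 1 < Fintype.card F := Fintype.one_lt_card
  have hcard : Nat.card G = Nat.card (Matrix.ProjectiveSpecialLinearGroup (Fin 2) F) := Nat.card_congr e.toEquiv
  interval_cases hF : Fintype.card F
  · have h2 := H14.SubField.card_PSL2_even (F := F) (by rw [hF]; decide)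
    rw [hF] at h2
    exact Cfsg.Agent.S0144.result 2 3 1 1 (by norm_num) (by norm_num) (by rw [hcard, h2]; norm_num)
  · have h2 := H14.SubField.card_PSL2_odd (F := F) (by rw [hF]; decide)
    rw [hF] at h2
    exact Cfsg.Agent.S0144.result 2 3 2 1 (by norm_num) (by norm_num) (by rw [hcard]; omega)

end Cfsg.Agent.NCy
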