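import Cfsg.Agent.NCy.Elem2
import Cfsg.Agent.NCy.Fuse
import Cfsg.Agent.NCy.PGL
import Cfsg.Agent.NCy.Small
import Cfsg.Agent.H4.Final

set_option autoImplicit false
set_option linter.unusedSectionVars false

/-! # The original Brauer-Suzuki-Wall theorem (helper2) -/

namespace Cfsg.Agent.NCy

open Cfsg.Agent.AbC

universe u

variable {G : Type u} [Group G] [Finite G]

/-- Z*: every involution commutes with a further conjugate -/
theorem exists_conj_comm (hns : NS G) (hFT : ∀ N : Subgroup G, Odd (Nat.card N) → Group.IsSolvable ↥N) {u : G} (hu : Inv u) :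
    ∃ g, Commute (g * u * g⁻¹) u ∧ g * u * g⁻¹ ≠ u := by
  by_contra hcon
  push Not at hcon
  have h1 : Cfsg.IsIsolatedInvolution u := ⟨hu.orderOf, fun g hg => hcon g hg.symm⟩
  have h2 := H4.zstar hu.orderOf (H4.OddComm.of_isolated h1)
  have h3 : Cfsg.pPrimeCore 2 G = ⊥ := hns _ inferInstance (hFT _ H4.odd_card_pPrimeCore_two)
  apply not_all_comm hns hu
  intro g
  have h4 := h2 g
  rw [h3, Subgroup.mem_bot, mul_inv_eq_one, mul_inv_eq_iff_eq_mul] at h4
  rw [← h4, mul_inv_cancel_right]

theorem final (H : NC G) (hns : NS G) [Nontrivial G] (hFT : ∀ N : Subgroup G, Odd (Nat.card N) → Group.IsSolvable ↥N) :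
    ∃ (F : Type) (_ : Field F) (_ : Fintype F), 3 < Fintype.card F ∧
      (Nonempty (G ≃* Matrix.ProjectiveSpecialLinearGroup (Fin 2) F) ∨
        Nonempty (G ≃* Matrix.ProjGenLinGroup (Fin 2) F)) := by
  haveI : Fact (Nat.Prime 2) := ⟨Nat.prime_two⟩
  have htop : ¬ Group.IsSolvable G := by
    intro h
    have h1 := hns ⊤ inferInstance inferInstance
    exact top_ne_bot h1
  -- an involution
  have hex : ∃ z : G, Inv z := by
    have heven : 2 ∣ Nat.card G := by
      by_contra h
      have hodd : Odd (Nat.card G) := by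
        rw [← Nat.not_even_iff_odd, even_iff_two_dvd]; exact h
      have h1 := hFT ⊤ (by rwa [Subgroup.card_top])
      have h2 := hns ⊤ inferInstance h1
      exact top_ne_bot h2
    obtain ⟨z, hz⟩ := exists_prime_orderOf_dvd_card' 2 heven
    refine ⟨z, ?_, ?_⟩
    · rintro rfl; rw [orderOf_one] at hz; omega
    · rw [← sq, ← hz, pow_orderOf_eq_one]
  have hZ : ∀ u : G, Inv u → ∃ g, Commute (g * u * g⁻¹) u ∧ g * u * g⁻¹ ≠ u := fun u hu => exists_conj_comm hns hFT hu
  have hfin : ∀ (F : Type) [Field F] [Fintype F], Nonempty (G ≃* Matrix.ProjectiveSpecialLinearGroup (Fin 2) F) →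
      ∃ (F : Type) (_ : Field F) (_ : Fintype F), 3 < Fintype.card F ∧
      (Nonempty (G ≃* Matrix.ProjectiveSpecialLinearGroup (Fin 2) F) ∨
        Nonempty (G ≃* Matrix.ProjGenLinGroup (Fin 2) F)) := by
    rintro F _ _ ⟨e⟩
    refine ⟨F, inferInstance, inferInstance, ?_, Or.inl ⟨e⟩⟩
    by_contra h
    exact htop (solvable_psl_small (by omega) e)
  by_cases h4 : ∀ x : G, ¬ Four x
  · rcases caseA H hns h4 hZ hex with ⟨F, i1, i2, hF, ⟨e⟩⟩ | ⟨F, i1, i2, -, he⟩
    · haveI := hF
      obtain ⟨e'⟩ := sl_equiv_psl_even (F := F)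
      exact hfin F ⟨e.trans e'⟩
    · exact hfin F he
  · push Not at h4
    obtain ⟨x, hx⟩ := h4
    obtain ⟨g, hg, hg'⟩ := hZ _ hx.inv
    have hsq := conj_sq g x
    have hF' := hx.conj g
    have hnc : ¬ Commute (g * (x * x) * g⁻¹) x := by
      intro hc
      -- configuration `Z4 × Z4`
      have h1 : Commute x ((g * x * g⁻¹) * (g * x * g⁻¹)) := by rw [hsq]; exact hc.symm
      have h2 := f1' H hF' h1.eq
      have h3 : Commute (g * x * g⁻¹) (x * x) := by
        have h3 : (x * x) * (g * x * g⁻¹) * (x * x)⁻¹ = g * x * g⁻¹ := by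
          rcases f1'' H hF' h1.eq with h | h
          · calc (x * x) * (g * x * g⁻¹) * (x * x)⁻¹ = x * (x * (g * x * g⁻¹) * x⁻¹) * x⁻¹ := by group
              _ = g * x * g⁻¹ := by rw [h, h]
          · calc (x * x) * (g * x * g⁻¹) * (x * x)⁻¹ = x * (x * (g * x * g⁻¹) * x⁻¹) * x⁻¹ := by group
              _ = x * (g * x * g⁻¹)⁻¹ * x⁻¹ := by rw [h]
              _ = (x * (g * x * g⁻¹) * x⁻¹)⁻¹ := conj_inv_eq _ _
              _ = g * x * g⁻¹ := by rw [h, inv_inv]
        exact (show Commute (x * x) (g * x * g⁻¹) from mul_inv_eq_iff_eq_mul.1 h3).symm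
      have h5 : x * x ≠ (g * x * g⁻¹) * (g * x * g⁻¹) := by rw [hsq]; exact hg'.symm
      have h6 : Commute x (g * x * g⁻¹) := comm_of_four hx hF' h5 h2 (f1' H hx h3.eq)
      exact no_cfg H hns ⟨hx, hF', h6, h5⟩
    have C : DC x (g * x * g⁻¹) := by
      refine ⟨hx, ⟨g, rfl⟩, by rw [hsq]; exact hg.symm, by rw [hsq]; exact hg'.symm, ?_⟩
      rw [hsq]
      rcases f1'' H hx hg.eq with h | h
      · exact absurd (mul_inv_eq_iff_eq_mul.1 h) hnc
      · exact h
    have P := C.pre H hns
    have hxK : x ∈ CK x := mem_CK.2 (Commute.refl x)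
    have hK4 : 4 ∣ Nat.card (CK x) := by
      have hord : orderOf x = 2 ^ 2 := by
        apply orderOf_eq_prime_pow (n := 1)
        · rw [pow_one, sq]; exact hx.1
        · exact hx.pow_four
      have h1 := Subgroup.orderOf_dvd_natCard (CK x) hxK
      rw [hord] at h1
      exact h1
    rcases P.fusion hxK rfl ⟨g, hsq.symm⟩ with hc | ⟨M, K1, t1, s1, r, hM, hrM, hrr, hrt, ht1, hs1, hK1, hcard, hc⟩
    · obtain ⟨F, i1, i2, -, he⟩ := BSW.psl_of_conf hc (Nat.le_of_dvd Nat.card_pos hK4)
      exact hfin F he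
    · haveI hMn : M.Normal := Subgroup.normal_of_index_eq_two hM
      have hcenM : ∀ c : M, c ∈ Subgroup.center M → c = 1 := by
        intro c hcc
        have h1 := hns (Subgroup.centralizer (M : Set G) ⊓ M) inferInstance (Group.isSolvable_of_comm (by
          intro a b
          exact Subtype.ext (Subgroup.mem_centralizer_iff.1 b.2.1 a a.2.2)))
        have h2 : (c : G) ∈ Subgroup.centralizer (M : Set G) ⊓ M := by
          refine ⟨?_, c.2⟩
          show (c : G) ∈ Subgroup.centralizer (M : Set G)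
          rw [Subgroup.mem_centralizer_iff]
          intro m hm
          exact congrArg Subtype.val (Subgroup.mem_center_iff.1 hcc ⟨m, hm⟩)
        rw [h1, Subgroup.mem_bot] at h2
        exact Subtype.ext h2
      have hcen : Subgroup.center M = ⊥ := (Subgroup.eq_bot_iff_forall _).2 hcenM
      have hcent : Subgroup.centralizer (M : Set G) = ⊥ := by
        rw [Subgroup.eq_bot_iff_forall]
        intro c hcc
        have hcc' := Subgroup.mem_centralizer_iff.1 hcc
        have hct : Commute c (x * x) := by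
          rw [← ht1]; exact (hcc' _ t1.2).symm
        have hcs : Commute c ((g * x * g⁻¹) * (g * x * g⁻¹)) := by
          rw [← hs1]; exact (hcc' _ s1.2).symm
        have hcM : c ∈ M := by
          rcases C.d3 H hns hct hcs with h | h | h | h <;> rw [h]
          · exact M.one_mem
          · rw [← ht1]; exact t1.2
          · rw [← hs1]; exact s1.2
          · rw [← ht1, ← hs1]; exact M.mul_mem t1.2 s1.2
        have h2 := hcenM ⟨c, hcM⟩ (by
          rw [Subgroup.mem_center_iff]
          intro m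
          exact Subtype.ext (hcc' m m.2))
        exact congrArg Subtype.val h2
      have hnor : ¬ ∀ Q : Sylow 2 M, (Q : Subgroup M).Normal := by
        intro hall
        have h2 : IsPGroup 2 (Subgroup.zpowers t1) := by
          rw [IsPGroup.iff_card]
          exact ⟨1, by rw [Nat.card_zpowers, (show Inv t1 from ⟨hc.t1, hc.tt⟩).orderOf, pow_one]⟩
        obtain ⟨Q, hQ⟩ := h2.exists_le_sylow
        haveI : (Q : Subgroup M).Characteristic := Q.characteristic_of_normal (hall Q)
        have h3 : ((Q : Subgroup M).map M.subtype).Normal := inferInstance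
        have h5 : IsPGroup 2 ((Q : Subgroup M).map M.subtype) := Q.isPGroup'.map M.subtype
        haveI : Group.IsNilpotent ((Q : Subgroup M).map M.subtype) := h5.isNilpotent
        have h4 := hns _ h3 inferInstance
        have h6 : (t1 : G) ∈ (Q : Subgroup M).map M.subtype := ⟨t1, hQ (Subgroup.mem_zpowers t1), rfl⟩
        rw [h4, Subgroup.mem_bot] at h6
        exact hc.t1 (Subtype.ext h6)
      obtain ⟨F, i1, i2, hFodd, ⟨e⟩⟩ : ∃ (F : Type) (_ : Field F) (_ : Fintype F), Odd (Fintype.card F) ∧
          Nonempty (M ≃* Matrix.ProjectiveSpecialLinearGroup (Fin 2) F) := by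
        by_cases hk : 4 ≤ Nat.card K1
        · exact BSW.psl_of_conf hc hk
        · apply psl_of_conf2 hc _ hnor hcen
          have h1 := hc.even_card
          obtain ⟨m, hm⟩ := h1
          have hpos : 0 < Nat.card K1 := Nat.card_pos
          omega
      refine ⟨F, i1, i2, ?_, Or.inr (pgl_of H hFodd M hM e hcent hrM hrr)⟩
      by_contra h
      haveI := solvable_psl_small (G := M) (by omega) e
      have h1 := hns M hMn inferInstance
      have h2 : (t1 : G) = 1 := (Subgroup.eq_bot_iff_forall M).1 h1 _ t1.2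
      exact hc.t1 (Subtype.ext h2)

end Cfsg.Agent.NCy
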